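import Cfsg.Agent.EqLemmas
import Mathlib.NumberTheory.Divisors
import Mathlib.Tactic

/-!
# Arithmetic: T - 1 and T - 2 do not divide the order of ²E₆(q)
-/

set_option autoImplicit false
set_option maxHeartbeats 1000000
set_option maxRecDepth 20000

namespace Cfsg.Agent.TwistE6Min

/-- The prime-to-q part of the order. -/
def nOrd (x : ℤ) : ℤ := (x ^ 2 - 1) * (x ^ 5 + 1) * (x ^ 6 - 1) * (x ^ 8 - 1) * (x ^ 9 + 1) * (x ^ 12 - 1)

/-- The remainder of the division by T - 1. -/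
def rem_one (x : ℤ) : ℤ := (1) * x ^ 10 + (29) * x ^ 9 + (-47) * x ^ 8 + (31) * x ^ 7 + (-15) * x ^ 6 + (17) * x ^ 5 + (-6) * x ^ 4 + (12) * x ^ 3 + (-40) * x ^ 2 + (48) * x ^ 1 + (-22) * x ^ 0

theorem dvd_one (x : ℤ) (h : (x ^ 11 - x ^ 8 + x ^ 7 + x ^ 5 - x ^ 4 + x - 1) ∣ nOrd x) : (x ^ 11 - x ^ 8 + x ^ 7 + x ^ 5 - x ^ 4 + x - 1) ∣ rem_one x := by
  have e : rem_one x = nOrd x + (x ^ 11 - x ^ 8 + x ^ 7 + x ^ 5 - x ^ 4 + x - 1) * (-((1) * x ^ 31 + (-1) * x ^ 29 + (1) * x ^ 28 + (-1) * x ^ 27 + (-2) * x ^ 24 + (2) * x ^ 23 + (-1) * x ^ 22 + (2) * x ^ 20 + (-3) * x ^ 19 + (1) * x ^ 18 + (3) * x ^ 17 + (-3) * x ^ 16 + (1) * x ^ 15 + (1) * x ^ 14 + (-4) * x ^ 13 + (6) * x ^ 12 + (-4) * x ^ 11 + (-3) * x ^ 10 + (10) * x ^ 9 + (-11) * x ^ 8 + (5) * x ^ 7 + (8) * x ^ 6 + (-17) * x ^ 5 + (15) * x ^ 4 + (-2) * x ^ 3 + (-14) * x ^ 2 + (25) * x ^ 1 + (-23) * x ^ 0)) :=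 by
    simp only [rem_one, nOrd]; ring
  rw [e]
  exact dvd_add h (dvd_mul_right _ _)

theorem small_one : ∀ k : Fin 30, 2 ≤ k.val →
    nOrd (k.val : ℤ) % ((k.val : ℤ) ^ 11 - (k.val : ℤ) ^ 8 + (k.val : ℤ) ^ 7 + (k.val : ℤ) ^ 5 -
      (k.val : ℤ) ^ 4 + (k.val : ℤ) - 1) ≠ 0 := by decide +kernel

theorem not_dvd_one {x : ℤ} (hx : 2 ≤ x) : ¬ (x ^ 11 - x ^ 8 + x ^ 7 + x ^ 5 - x ^ 4 + x - 1) ∣ nOrd x := by
  intro h
  rcases le_or_gt 30 x with hS | hS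
  · have h1 := dvd_one x h
    have hp : ∀ k : ℕ, 0 < x ^ k := fun k => pow_pos (by omega) k
    have s1 : 0 < x ^ 2 + 29 * x - 47 := by nlinarith
    have s2 : 0 < x ^ 2 - x - 29 := by nlinarith
    have e1 : 0 < rem_one x := by
      have e : rem_one x = x ^ 8 * (x ^ 2 + 29 * x - 47) + x ^ 6 * (31 * x - 15) + x ^ 4 * (17 * x - 6) +
          x ^ 2 * (12 * x - 40) + (48 * x - 22) := by simp only [rem_one]; ring
      have := mul_pos (hp 8) s1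
      have := mul_pos (hp 6) (show (0 : ℤ) < 31 * x - 15 by omega)
      have := mul_pos (hp 4) (show (0 : ℤ) < 17 * x - 6 by omega)
      have := mul_pos (hp 2) (show (0 : ℤ) < 12 * x - 40 by omega)
      omega
    have e2 : rem_one x < x ^ 11 - x ^ 8 + x ^ 7 + x ^ 5 - x ^ 4 + x - 1 := by
      have e : x ^ 11 - x ^ 8 + x ^ 7 + x ^ 5 - x ^ 4 + x - 1 - rem_one x = x ^ 9 * (x ^ 2 - x - 29) +
          x ^ 7 * (46 * x - 30) + x ^ 5 * (15 * x - 16) + x ^ 3 * (5 * x - 12) + x * (40 * x - 47) + 21 := by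
        simp only [rem_one]; ring
      have := mul_pos (hp 9) s2
      have := mul_pos (hp 7) (show (0 : ℤ) < 46 * x - 30 by omega)
      have := mul_pos (hp 5) (show (0 : ℤ) < 15 * x - 16 by omega)
      have := mul_pos (hp 3) (show (0 : ℤ) < 5 * x - 12 by omega)
      have := mul_pos (show (0 : ℤ) < x by omega) (show (0 : ℤ) < 40 * x - 47 by omega)
      omega
    exact absurd (Int.le_of_dvd e1 h1) (not_le.2 e2)
  · obtain ⟨n, rfl⟩ : ∃ n : ℕ, x = n := ⟨x.toNat, by omega⟩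
    exact small_one ⟨n, by omega⟩ (by simp only; omega) (Int.emod_eq_zero_of_dvd h)

/-- The remainder of the division by T - 2. -/
def rem_two (x : ℤ) : ℤ := (54) * x ^ 10 + (-224) * x ^ 9 + (268) * x ^ 8 + (-170) * x ^ 7 + (50) * x ^ 6 + (-6) * x ^ 4 + (-126) * x ^ 3 + (324) * x ^ 2 + (-336) * x ^ 1 + (166) * x ^ 0

theorem dvd_two (x : ℤ) (h : (x ^ 11 - x ^ 8 + x ^ 7 + x ^ 5 - x ^ 4 + x - 2) ∣ 2 * nOrd x) : (x ^ 11 - x ^ 8 + x ^ 7 + x ^ 5 - x ^ 4 + x - 2) ∣ rem_two x := by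
  have e : rem_two x = -(2 * nOrd x) + (x ^ 11 - x ^ 8 + x ^ 7 + x ^ 5 - x ^ 4 + x - 2) * (2 * ((1) * x ^ 31 + (-1) * x ^ 29 + (1) * x ^ 28 + (-1) * x ^ 27 + (-2) * x ^ 24 + (2) * x ^ 23 + (-1) * x ^ 22 + (3) * x ^ 20 + (-3) * x ^ 19 + (5) * x ^ 17 + (-5) * x ^ 16 + (3) * x ^ 14 + (-9) * x ^ 13 + (10) * x ^ 12 + (-5) * x ^ 11 + (-7) * x ^ 10 + (22) * x ^ 9 + (-21) * x ^ 8 + (6) * x ^ 7 + (24) * x ^ 6 + (-40) * x ^ 5 + (26) * x ^ 4 + (7) * x ^ 3 + (-49) * x ^ 2 + (63) * x ^ 1 + (-42) * x ^ 0)) := by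
    simp only [rem_two, nOrd]; ring
  rw [e]
  exact dvd_add (dvd_neg.2 h) (dvd_mul_right _ _)

theorem small_two : ∀ k : Fin 55, 2 ≤ k.val →
    2 * nOrd (k.val : ℤ) % ((k.val : ℤ) ^ 11 - (k.val : ℤ) ^ 8 + (k.val : ℤ) ^ 7 + (k.val : ℤ) ^ 5 -
      (k.val : ℤ) ^ 4 + (k.val : ℤ) - 2) ≠ 0 := by decide +kernel

theorem not_dvd_two {x : ℤ} (hx : 2 ≤ x) : ¬ (x ^ 11 - x ^ 8 + x ^ 7 + x ^ 5 - x ^ 4 + x - 2) ∣ 2 * nOrd x := by
  intro h
  rcases le_or_gt 55 x with hS | hS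
  · have h1 := dvd_two x h
    have hp : ∀ k : ℕ, 0 < x ^ k := fun k => pow_pos (by omega) k
    have s1 : 0 < 25 * x ^ 3 - 3 * x - 63 := by nlinarith [hp 3, hp 2]
    have e1 : 0 < rem_two x := by
      have e : rem_two x = 2 * (x ^ 9 * (27 * x - 112) + x ^ 7 * (134 * x - 85) + x ^ 3 * (25 * x ^ 3 - 3 * x - 63) +
          x * (162 * x - 168) + 83) - 0 := by simp only [rem_two]; ring
      have := mul_pos (hp 9) (show (0 : ℤ) < 27 * x - 112 by omega)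
      have := mul_pos (hp 7) (show (0 : ℤ) < 134 * x - 85 by omega)
      have := mul_pos (hp 3) s1
      have := mul_pos (show (0 : ℤ) < x by omega) (show (0 : ℤ) < 162 * x - 168 by omega)
      omega
    have e2 : rem_two x < x ^ 11 - x ^ 8 + x ^ 7 + x ^ 5 - x ^ 4 + x - 2 := by
      have e : x ^ 11 - x ^ 8 + x ^ 7 + x ^ 5 - x ^ 4 + x - 2 - rem_two x = x ^ 10 * (x - 54) +
          x ^ 8 * (224 * x - 269) + x ^ 6 * (171 * x - 50) + x ^ 5 + 5 * x ^ 4 + x ^ 2 * (126 * x - 324) +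
          (337 * x - 168) := by simp only [rem_two]; ring
      have := mul_pos (hp 10) (show (0 : ℤ) < x - 54 by omega)
      have := mul_pos (hp 8) (show (0 : ℤ) < 224 * x - 269 by omega)
      have := mul_pos (hp 6) (show (0 : ℤ) < 171 * x - 50 by omega)
      have := mul_pos (hp 2) (show (0 : ℤ) < 126 * x - 324 by omega)
      have := hp 5
      have := hp 4
      omega
    exact absurd (Int.le_of_dvd e1 h1) (not_le.2 e2)
  · obtain ⟨n, rfl⟩ : ∃ n : ℕ, x = n := ⟨x.toNat, by omega⟩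
    exact small_two ⟨n, by omega⟩ (by simp only; omega) (Int.emod_eq_zero_of_dvd h)

end Cfsg.Agent.TwistE6Min
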