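import Cfsg.Agent.Lib.TwistE6MinDegree.Data
import Cfsg.Agent.EqLemmas

/-!
# Counting with twelve long roots

* `wim`, `exists_word`: Weyl words acting on root subgroups.
* `exists_vecTwo`, `exists_vecFour`: line vectors fixed by the other positive roots.
* `count`, `degree_le`: a non-trivial representation has degree at least `T - 2`.
-/

set_option autoImplicit false
set_option maxRecDepth 100000
set_option synthInstance.maxSize 2000
set_option linter.unusedSectionVars false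

namespace Cfsg.Agent.TwistE6Min

open Module Cfsg.Lie Cfsg.Lie.ChevalleyDatum Cfsg.Agent.Chev Cfsg.Agent.TwistE6D4 Cfsg.Agent.SUMinDegree

/-- The image of an orbit under a word. -/
abbrev wim (w : List (Fin 4)) (x : ℕ) : ℕ := w.foldr nx x

/-- A step of the count: a long root, a word, pairs, previous roots. -/
structure Step where
  al : ℕ
  exc : List ℕ
  pairs : List (ℕ × ℕ × ℤ)
  root : ℕ
  word : List (Fin 4)
  T : List (ℕ × ℕ × ℤ)
  pre : List ℕ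

/-- A step at the node 46. -/
def stepTwo (g : ℕ) (w : List (Fin 4)) (T : List (ℕ × ℕ × ℤ)) (pre : List ℕ) : Step :=
  ⟨46, excTwo, pairsTwo, g, w, T, pre⟩

/-- A step at the node 39. -/
def stepFour (g : ℕ) (w : List (Fin 4)) (T : List (ℕ × ℕ × ℤ)) (pre : List ℕ) : Step :=
  ⟨39, 46 :: excFour, pairsFour, g, w, T, pre⟩

/-- The steps. -/
def steps : List Step :=
  [stepTwo 71 [0, 1, 2, 3, 1, 2, 1] [(47, 32, (-1 : ℤ)), (48, 28, (1 : ℤ)), (49, 13, (-1 : ℤ)), (51, 27, (1 : ℤ)), (52, 12, (-1 : ℤ)), (63, 11, (1 : ℤ)), (71, 1, (1 : ℤ))] [],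
   stepTwo 70 [1, 2, 3, 1, 2, 1] [(47, 32, (-1 : ℤ)), (48, 28, (1 : ℤ)), (49, 13, (-1 : ℤ)), (51, 27, (1 : ℤ)), (52, 12, (-1 : ℤ)), (63, 11, (1 : ℤ))] [71],
   stepTwo 69 [2, 3, 1, 2, 1] [(47, 32, (-1 : ℤ)), (48, 28, (1 : ℤ)), (49, 13, (-1 : ℤ)), (51, 27, (1 : ℤ)), (52, 12, (-1 : ℤ))] [70, 71],
   stepTwo 65 [3, 1, 2, 1] [(47, 32, (-1 : ℤ)), (48, 28, (1 : ℤ)), (49, 13, (-1 : ℤ)), (51, 27, (1 : ℤ))] [69, 70, 71],
   stepTwo 63 [3, 2, 1] [(47, 32, (-1 : ℤ)), (48, 28, (1 : ℤ)), (49, 13, (-1 : ℤ))] [65, 69, 70, 71],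
   stepTwo 53 [0, 1, 2, 1] [(47, 32, (-1 : ℤ)), (48, 28, (1 : ℤ)), (51, 27, (1 : ℤ))] [63, 65, 69, 70, 71],
   stepTwo 51 [2, 1] [(47, 32, (-1 : ℤ)), (48, 28, (1 : ℤ))] [53, 63, 65, 66, 69, 70, 71],
   stepTwo 47 [1] [(47, 32, (-1 : ℤ))] [51, 53, 63, 65, 66, 69, 70, 71],
   stepTwo 46 [] [] [47, 51, 53, 63, 65, 66, 69, 70, 71],
   stepFour 60 [3, 2] [(40, 29, (-1 : ℤ)), (41, 14, (1 : ℤ))] [46, 47, 48, 49, 51, 52, 53, 54, 55, 63, 65, 66, 69, 70, 71],
   stepFour 44 [2] [(40, 29, (-1 : ℤ))] [46, 47, 48, 49, 51, 52, 53, 54, 55, 60, 63, 65, 66, 69, 70, 71],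
   stepFour 39 [] [] [44, 46, 47, 48, 49, 51, 52, 53, 54, 55, 60, 63, 65, 66, 69, 70, 71]]

/-- The exponent of a step. -/
def Step.expo (s : Step) : ℕ := (s.T.map fun e => e2len e.2.1).sum
where
  e2len (r : ℕ) : ℕ := e6Twist.len r

/-- The validity of a step. -/
abbrev Step.Ok (s : Step) : Prop :=
  s.al ∈ e6Twist.reps ∧ s.root ∈ e6Twist.reps ∧ wim s.word s.al = s.root ∧ e6Twist.len s.root = 1 ∧
    s.T.Sublist s.pairs ∧ (∀ e ∈ s.T, e.1 ∈ s.exc) ∧
    (∀ x ∈ s.pre, ∃ y ∈ s.exc, y ∈ e6Twist.reps ∧ wim s.word y = x) ∧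
    ∀ e ∈ s.T, e.2.1 ∈ e6Twist.reps ∧ ComOK (wim s.word e.2.1) s.root ∧
      ∀ g ∈ s.pre, SuppOK (wim s.word e.2.1) g (suppL (wim s.word e.2.1) g) ∧
        ∀ k ∈ suppL (wim s.word e.2.1) g, k ∈ s.pre

/-- Successive steps. -/
def Chained : List Step → Prop
  | [] => True
  | [_] => True
  | s :: t :: L => (∀ x ∈ s.root :: s.pre, x ∈ t.pre) ∧ Chained (t :: L)

instance instDecidableChained : (L : List Step) → Decidable (Chained L)
  | [] => inferInstanceAs (Decidable True)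
  | [_] => inferInstanceAs (Decidable True)
  | s :: t :: L =>
    have := instDecidableChained (t :: L)
    inferInstanceAs (Decidable (_ ∧ _))

theorem steps_chained : Chained steps := by decide +kernel

theorem steps_ok : ∀ s ∈ steps, s.Ok := by decide +kernel

theorem steps_kind : ∀ s ∈ steps,
    (s.al = 46 ∧ s.exc = excTwo ∧ s.pairs = pairsTwo) ∨ (s.al = 39 ∧ s.exc = 46 :: excFour ∧ s.pairs = pairsFour) := by
  decide +kernel

theorem steps_expo : steps.map Step.expo = [10, 9, 8, 6, 5, 4, 3, 1, 0, 4, 2, 0] := by decide +kernel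

variable {K : Type*} [Field K] [Fintype K] {φ : K →+* K} {hD : Good chevE6} {q : ℕ}
  (hq : Hyp (ctxE6 hD φ) q 2)
  {V : Type*} [AddCommGroup V] [Module ℂ V] (ρ : Representation ℂ ↥(ctxE6 hD φ).G0 V)

variable (φ hD) in
theorem exists_word : ∀ w : List (Fin 4), ∃ n : ↥(ctxE6 hD φ).G0, ∀ x ∈ e6Twist.reps,
    wim w x ∈ e6Twist.reps ∧ ∃ σ : Pr φ x ≃+ Pr φ (wim w x), ∀ t, n * U φ hD x t = U φ hD (wim w x) (σ t) * n
  | [] => ⟨1, fun x hx => ⟨hx, AddEquiv.refl _, fun t => by rw [one_mul, mul_one]; rfl⟩⟩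
  | a :: w => by
    obtain ⟨n, hn⟩ := exists_word w
    refine ⟨nn φ hD a * n, fun x hx => ?_⟩
    obtain ⟨h1, σ, hσ⟩ := hn x hx
    obtain ⟨h2, τ, hτ⟩ := exists_conj φ hD a h1 (r' := wim (a :: w) x) rfl
    exact ⟨h2, σ.trans τ, fun t => by rw [mul_assoc, hσ, ← mul_assoc, hτ, mul_assoc]; rfl⟩

/-- The transported character. -/
def pull {A B : Type*} [AddCommGroup A] [AddCommGroup B] (σ : A ≃+ B) (χ : AddChar B ℂ) : AddChar A ℂ :=
  χ.compAddMonoidHom σ.toAddMonoidHom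

theorem pull_ne {A B : Type*} [AddCommGroup A] [AddCommGroup B] (σ : A ≃+ B) {χ : AddChar B ℂ} (h : χ ≠ 1) :
    pull σ χ ≠ 1 := fun e => h (AddChar.ext _ _ fun b => by
  have := DFunLike.congr_fun e (σ.symm b)
  simpa [pull] using this)

/-- All long-root eigenspaces are non-zero and small. -/
def Small (al : ℕ) : Prop :=
  ∀ χ : AddChar (Pr φ al) ℂ, χ ≠ 1 → eig ρ (U φ hD al) χ ≠ ⊥ ∧
    finrank ℂ (eig ρ (U φ hD al) χ) < 2 * q ^ 10

variable [FiniteDimensional ℂ V]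

include hq

theorem U_add' (i : ℕ) (a b : Pr φ i) : U φ hD i (a + b) = U φ hD i a * U φ hD i b := U_add φ hD i a b

theorem exists_spans {al : ℕ} {pairs : List (ℕ × ℕ × ℤ)} {A : List ℕ}
    (hP : ∀ e ∈ pairs, PairOK al e.1 e.2.1 e.2.2) (hA : pairs.map (fun e => e.1) = A)
    (hC : pairs.Pairwise fun e f => ComOK f.2.1 e.1 ∧ ComOK f.1 e.1)
    (hCal : ∀ e ∈ pairs, ComOK e.1 al ∧ ComOK e.2.1 al)
    (hexp : (pairs.map fun e => e6Twist.len e.2.1).sum = 10)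
    (h : Small (q := q) ρ al) {χ : AddChar (Pr φ al) ℂ} (hχ : χ ≠ 1) :
    ∃ v, v ≠ 0 ∧ Spans ρ al A χ v := by
  have hφ := sq_eq hq
  let L : List (ℕ × ℕ) := pairs.map fun e => (e.1, e.2.1)
  have hL1 : L.map Prod.fst = A := by rw [← hA, List.map_map]; rfl
  have hpair : ∀ e ∈ L, Pair ρ (eig ρ (U φ hD al) χ) (U φ hD e.1) (U φ hD e.2) := by
    intro e he
    obtain ⟨f, hf, rfl⟩ := List.mem_map.1 he
    exact pair_ok ρ hq (hP f hf) hχ
  have hinv : ∀ x, ComOK x al → ∀ s, ∀ v ∈ eig ρ (U φ hD al) χ, ρ (U φ hD x s) v ∈ eig ρ (U φ hD al) χ :=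
    fun x hx s v hv => (mem_eig ρ _).2 fun w => by
      rw [← rmul, ← com_of_ok hD hφ hx s w, rmul, (mem_eig ρ _).1 hv w, map_smul]
  obtain ⟨hne, hlt⟩ := h χ hχ
  have hl : L.Pairwise fun e f => Com (U φ hD) f.2 e.1 ∧ Com (U φ hD) f.1 e.1 :=
    List.pairwise_map.2 (hC.imp fun h => ⟨com_of_ok hD hφ h.1, com_of_ok hD hφ h.2⟩)
  have h2 : ∀ e ∈ L, ∀ s, ∀ v ∈ eig ρ (U φ hD al) χ, ρ (U φ hD e.2 s) v ∈ eig ρ (U φ hD al) χ := by
    intro e he
    obtain ⟨f, hf, rfl⟩ := List.mem_map.1 he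
    exact hinv _ (hCal f hf).2
  have h1 : ∀ e ∈ L, ∀ s, ∀ v ∈ eig ρ (U φ hD al) χ, ρ (U φ hD e.1 s) v ∈ eig ρ (U φ hD al) χ := by
    intro e he
    obtain ⟨f, hf, rfl⟩ := List.mem_map.1 he
    exact hinv _ (hCal f hf).1
  have hne' := exists_fix ρ (U_add' hq) L hpair hl _ le_rfl h2 h1 hne
  have hle := pow_le ρ (U_add' hq) L hpair (hl.imp fun h => h.1) _ le_rfl h2
  rw [hL1] at hne' hle
  have hprod : (L.map fun e => Fintype.card (Pr φ e.2)).prod = q ^ 10 := by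
    rw [← hexp, List.map_map]
    clear hne' hle hl h1 h2 hpair hL1 hA hC hCal hexp
    induction pairs with
    | nil => simp
    | cons e es ih =>
      simp only [List.map_cons, List.prod_cons, List.sum_cons, Function.comp_apply, pow_add,
        ih fun f hf => hP f (List.mem_cons_of_mem _ hf)]
      congr 1
      rcases hP e (List.mem_cons_self ..) with ⟨-, -, -, -, -, h, -⟩ | ⟨-, -, -, -, -, h, -⟩
      · rw [card_one hq h, h, pow_one]
      · rw [card_two hq h, h]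
  rw [hprod] at hle
  have hdim : finrank ℂ (Line ρ al A χ) ≤ 1 := by
    by_contra hc
    have : q ^ 10 * 2 ≤ q ^ 10 * finrank ℂ (Line ρ al A χ) := Nat.mul_le_mul_left _ (by omega)
    unfold Line at this
    omega
  obtain ⟨v, hv, hv0⟩ := (Submodule.ne_bot_iff _).1 hne'
  refine ⟨v, hv0, hv, fun u hu => ?_⟩
  have h3 : ℂ ∙ v = Line ρ al A χ := Submodule.eq_of_le_of_finrank_le
    ((Submodule.span_singleton_le_iff_mem _ _).2 hv) (by rw [finrank_span_singleton hv0]; exact hdim)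
  obtain ⟨a, ha⟩ := Submodule.mem_span_singleton.1 (h3 ▸ hu)
  exact ⟨a, ha.symm⟩

theorem spans_init {al : ℕ} {A : List ℕ} {χ : AddChar (Pr φ al) ℂ} {v : V} (hv : Spans ρ al A χ v) :
    (∀ k ∈ A, IsF ρ v k) ∧ ∀ k ∈ al :: A, IsH ρ v k := by
  have h1 : ∀ k ∈ A, IsF ρ v k := fun k hk => (mem_FixL ρ).1 hv.mem.2 k hk
  exact ⟨h1, fun k hk => (List.mem_cons.1 hk).elim
    (fun e t => by subst e; exact ⟨_, (mem_eig ρ _).1 hv.mem.1 t⟩) fun hk => (h1 k hk).isH⟩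

theorem exists_vecTwo (h : Small (q := q) ρ 46) {χ : AddChar (Pr φ 46) ℂ} (hχ : χ ≠ 1) :
    ∃ v, v ≠ 0 ∧ Spans ρ 46 halfTwo χ v ∧ v ∈ FixL ρ (U φ hD) excTwo := by
  obtain ⟨v, hv0, hv⟩ := exists_spans hq ρ pairsTwo_ok pairsTwo_fst pairsTwo_com pairsTwo_com_al
    (by decide +kernel) h hχ
  obtain ⟨h1, h2⟩ := spans_init hq ρ hv
  exact ⟨v, hv0, hv, (mem_FixL ρ).2 fun e he => (derive hq hv nodesTwo_ok _ _ _ runTwo_ok h1 h2).1 e he⟩

theorem exists_vecFour (h : Small (q := q) ρ 46) (h' : Small (q := q) ρ 39) {χ : AddChar (Pr φ 39) ℂ}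
    (hχ : χ ≠ 1) : ∃ v, v ≠ 0 ∧ v ∈ eig ρ (U φ hD 39) χ ∧ v ∈ FixL ρ (U φ hD) (46 :: excFour) := by
  obtain ⟨v, hv0, hv⟩ := exists_spans hq ρ pairsFour_ok pairsFour_fst pairsFour_com pairsFour_com_al
    (by decide +kernel) h' hχ
  obtain ⟨h1, h2⟩ := spans_init hq ρ hv
  obtain ⟨hF, hH⟩ := derive hq hv nodesFour_ok _ _ _ runFour_ok h1 h2
  have hH46 : IsH ρ v 46 := hH 46 (List.mem_singleton_self _)
  choose a ha using hH46
  let ψ : AddChar (Pr φ 46) ℂ :=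
    { toFun := a
      map_zero_eq_one' := smul_left_injective ℂ hv0 (show a 0 • v = (1 : ℂ) • v by
        rw [← ha, one_smul, map_zero' (U φ hD 46) (U_add φ hD 46), map_one]; rfl)
      map_add_eq_mul' := fun s t => smul_left_injective ℂ hv0 (show a (s + t) • v = (a s * a t) • v by
        rw [← ha, U_add, rmul, ha, map_smul, ha, smul_smul, mul_comm]) }
  have hψ : v ∈ eig ρ (U φ hD 46) ψ := (mem_eig ρ _).2 ha
  refine ⟨v, hv0, hv.mem.1, (mem_FixL ρ).2 fun e he => ?_⟩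
  rcases List.mem_cons.1 he with rfl | he
  · by_contra hne
    have hψ1 : ψ ≠ 1 := fun e => hne fun t => by
      rw [(mem_eig ρ _).1 hψ t, e, AddChar.one_apply, one_smul]
    obtain ⟨w, hw0, hw, hwfix⟩ := exists_vecTwo hq ρ h hψ1
    obtain ⟨d, hd⟩ := hw.span v ⟨hψ, (mem_FixL ρ).2 fun k hk => hF k (four_half_two.1 k hk)⟩
    refine hχ (AddChar.ext _ _ fun t => smul_left_injective ℂ hv0 ?_)
    show χ t • v = (1 : AddChar (Pr φ 39) ℂ) t • v
    rw [← (mem_eig ρ _).1 hv.mem.1 t, AddChar.one_apply, one_smul, hd, map_smul,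
      (mem_FixL ρ).1 hwfix 39 four_half_two.2 t]
  · exact hF e he

theorem exists_step_vec (h : Small (q := q) ρ 46) (h' : Small (q := q) ρ 39) {s : Step} (hs : s ∈ steps)
    {χ : AddChar (Pr φ s.al) ℂ} (hχ : χ ≠ 1) :
    ∃ v, v ≠ 0 ∧ v ∈ eig ρ (U φ hD s.al) χ ∧ v ∈ FixL ρ (U φ hD) s.exc := by
  rcases steps_kind s hs with ⟨e1, e2, -⟩ | ⟨e1, e2, -⟩
  · rw [e2]
    obtain ⟨al, exc, ps, g, w, T, pre⟩ := s
    subst e1
    obtain ⟨v, hv0, hv, hf⟩ := exists_vecTwo hq ρ h hχ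
    exact ⟨v, hv0, hv.mem.1, hf⟩
  · rw [e2]
    obtain ⟨al, exc, ps, g, w, T, pre⟩ := s
    subst e1
    exact exists_vecFour hq ρ h h' hχ

theorem step_pairs {s : Step} (hs : s ∈ steps) :
    (∀ e ∈ s.pairs, PairOK s.al e.1 e.2.1 e.2.2) ∧
      s.pairs.Pairwise (fun e f => ComOK f.2.1 e.1 ∧ ComOK f.1 e.1) ∧
      ∀ e ∈ s.pairs, ComOK e.1 s.al ∧ ComOK e.2.1 s.al := by
  rcases steps_kind s hs with ⟨e1, -, e3⟩ | ⟨e1, -, e3⟩
  · rw [e1, e3]; exact ⟨pairsTwo_ok, pairsTwo_com, pairsTwo_com_al⟩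
  · rw [e1, e3]; exact ⟨pairsFour_ok, pairsFour_com, pairsFour_com_al⟩

theorem step_low (h : Small (q := q) ρ 46) (h' : Small (q := q) ρ 39) {s : Step} (hs : s ∈ steps)
    {χ' : AddChar (Pr φ s.root) ℂ} (hχ' : χ' ≠ 1) :
    q ^ s.expo ≤ finrank ℂ (FixL ρ (U φ hD) s.pre ⊓ eig ρ (U φ hD s.root) χ' : Submodule ℂ V) := by
  have hφ := sq_eq hq
  obtain ⟨hal, -, hroot, -, hsub, hexc, hpre, hT⟩ := steps_ok s hs
  obtain ⟨hP, hC, hCal⟩ := step_pairs hq hs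
  obtain ⟨n, hn⟩ := exists_word φ hD s.word
  obtain ⟨-, σ, hσ⟩ := hn s.al hal
  obtain ⟨χ, hχd⟩ : ∃ χ : AddChar (Pr φ s.al) ℂ, χ ≠ 1 ∧
      ∀ v ∈ eig ρ (U φ hD s.al) χ, ρ n v ∈ eig ρ (U φ hD s.root) χ' ∧
      ∀ w ∈ eig ρ (U φ hD s.root) χ', ρ n⁻¹ w ∈ eig ρ (U φ hD s.al) χ := by
    obtain ⟨al, exc, ps, g, wd', T, pre⟩ := s
    simp only at hroot σ hσ χ' hχ' ⊢
    subst hroot
    refine ⟨pull σ χ', pull_ne σ hχ', fun v hv => ⟨(mem_eig ρ _).2 fun u => ?_, fun w hw =>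
      (mem_eig ρ _).2 fun t => ?_⟩⟩
    · obtain ⟨t, rfl⟩ := σ.surjective u
      rw [← rmul, ← hσ, rmul, (mem_eig ρ _).1 hv t, map_smul]
      rfl
    · refine rep_injective ρ n ?_
      rw [← rmul, hσ, rmul, rinv', (mem_eig ρ _).1 hw, map_smul, rinv']
      rfl
  obtain ⟨hχ, hmove⟩ := hχd
  obtain ⟨v, hv0, hvE, hvF⟩ := exists_step_vec hq ρ h h' hs hχ
  obtain ⟨hnv, hback⟩ := hmove v hvE
  obtain ⟨X, hX⟩ : ∃ X : Submodule ℂ V,
      X = (FixL ρ (U φ hD) s.pre ⊓ eig ρ (U φ hD s.root) χ' : Submodule ℂ V).map (ρ n⁻¹) := ⟨_, rfl⟩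
  have hfin : finrank ℂ (FixL ρ (U φ hD) s.pre ⊓ eig ρ (U φ hD s.root) χ' : Submodule ℂ V) = finrank ℂ X := by
    rw [hX]; exact (Submodule.equivMapOfInjective _ (rep_injective ρ _) _).finrank_eq
  rw [hfin]
  have hXle : X ≤ eig ρ (U φ hD s.al) χ := by
    rw [hX]
    rintro _ ⟨w, hw, rfl⟩
    exact hback w hw.2
  let L : List (ℕ × ℕ) := s.T.map fun e => (e.1, e.2.1)
  have hpair : ∀ e ∈ L, Pair ρ (eig ρ (U φ hD s.al) χ) (U φ hD e.1) (U φ hD e.2) := by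
    intro e he
    obtain ⟨f, hf, rfl⟩ := List.mem_map.1 he
    exact pair_ok ρ hq (hP f (hsub.subset hf)) hχ
  have hl : L.Pairwise fun e f => Com (U φ hD) f.2 e.1 :=
    List.pairwise_map.2 ((hC.sublist hsub).imp fun h => com_of_ok hD hφ h.1)
  have hinv : ∀ e ∈ L, ∀ t, ∀ u ∈ X, ρ (U φ hD e.2 t) u ∈ X := by
    intro e he t u hu
    obtain ⟨f, hf, rfl⟩ := List.mem_map.1 he
    obtain ⟨hfr, hcom, hcl⟩ := hT f hf
    obtain ⟨-, τ, hτ⟩ := hn f.2.1 hfr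
    rw [hX] at hu ⊢
    obtain ⟨w, ⟨hwF, hwE⟩, rfl⟩ := hu
    refine ⟨ρ (U φ hD (wim s.word f.2.1) (τ t)) w, ⟨(mem_FixL ρ).2 fun g hg r => ?_,
      (mem_eig ρ _).2 fun r => ?_⟩, ?_⟩
    · obtain ⟨hsu, hsl⟩ := hcl g hg
      rw [← supp_fix hD hφ ρ hsu ((mem_FixL ρ).2 fun k hk => (mem_FixL ρ).1 hwF k (hsl k hk)) (τ t) r,
        (mem_FixL ρ).1 hwF g hg r]
    · rw [← rmul, ← com_of_ok hD hφ hcom (τ t) r, rmul, (mem_eig ρ _).1 hwE r, map_smul]
    · rw [← rmul, ← rmul, inv_mul_eq_iff_eq_mul.2 (show U φ hD (wim s.word f.2.1) (τ t) =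
          n * (U φ hD f.2.1 t * n⁻¹) by rw [← mul_assoc, hτ, mul_inv_cancel_right])]
  have hle := pow_le ρ (U_add' hq) L hpair hl X hXle hinv
  have hprod : (L.map fun e => Fintype.card (Pr φ e.2)).prod = q ^ s.expo := by
    rw [Step.expo, List.map_map]
    have hP' : ∀ e ∈ s.T, PairOK s.al e.1 e.2.1 e.2.2 := fun e he => hP e (hsub.subset he)
    clear hle hinv hl hpair hsub hexc hT L
    generalize s.T = T at hP'
    induction T with
    | nil => simp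
    | cons e es ih =>
      simp only [List.map_cons, List.prod_cons, List.sum_cons, Function.comp_apply, pow_add,
        ih fun f hf => hP' f (List.mem_cons_of_mem _ hf)]
      congr 1
      rcases hP' e (List.mem_cons_self ..) with ⟨-, -, -, -, -, h, -⟩ | ⟨-, -, -, -, -, h, -⟩
      · rw [card_one hq h, Step.expo.e2len, h, pow_one]
      · rw [card_two hq h, Step.expo.e2len, h]
  rw [hprod] at hle
  refine le_trans (le_mul_of_one_le_right (Nat.zero_le _) ?_) hle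
  refine Submodule.one_le_finrank_iff.2 ((Submodule.ne_bot_iff _).2 ⟨v, ⟨?_, ?_⟩, hv0⟩)
  · rw [hX]
    refine ⟨ρ n v, ⟨(mem_FixL ρ).2 fun x hx u => ?_, hnv⟩, rinv ρ n v⟩
    obtain ⟨y, hy, hyr, rfl⟩ := hpre x hx
    obtain ⟨-, τ, hτ⟩ := hn y hyr
    obtain ⟨t, rfl⟩ := τ.surjective u
    rw [← rmul, ← hτ, rmul, (mem_FixL ρ).1 hvF y hy t]
  · refine (mem_FixL ρ).2 fun i hi t => ?_
    obtain ⟨_, he, rfl⟩ := List.mem_map.1 hi
    obtain ⟨f, hf, rfl⟩ := List.mem_map.1 he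
    exact (mem_FixL ρ).1 hvF _ (hexc f hf) t

theorem count (h : Small (q := q) ρ 46) (h' : Small (q := q) ρ 39) : ∀ (s : Step) (L : List Step),
    (∀ t ∈ s :: L, t ∈ steps) → Chained (s :: L) →
    ((s :: L).map fun t => (q - 1) * q ^ t.expo).sum ≤ finrank ℂ (FixL ρ (U φ hD) s.pre) := by
  classical
  have hone : ∀ s ∈ steps, (q - 1) * q ^ s.expo + finrank ℂ (FixL ρ (U φ hD) (s.root :: s.pre)) ≤
      finrank ℂ (FixL ρ (U φ hD) s.pre) := by
    intro s hs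
    have h1 := sum_finrank_le ρ (U_add φ hD s.root) (FixL ρ (U φ hD) s.pre) Finset.univ
      (fun ψ => FixL ρ (U φ hD) s.pre ⊓ eig ρ (U φ hD s.root) ψ) fun _ _ => le_rfl
    rw [← Finset.sum_erase_add _ _ (Finset.mem_univ (1 : AddChar (Pr φ s.root) ℂ))] at h1
    have h2 : (q - 1) * q ^ s.expo ≤ ∑ ψ ∈ Finset.univ.erase (1 : AddChar (Pr φ s.root) ℂ),
        finrank ℂ (FixL ρ (U φ hD) s.pre ⊓ eig ρ (U φ hD s.root) ψ : Submodule ℂ V) := by
      refine le_trans (le_of_eq ?_) (Finset.sum_le_sum fun ψ hψ =>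
        step_low hq ρ h h' hs (Finset.ne_of_mem_erase hψ))
      rw [Finset.sum_const, Finset.card_erase_of_mem (Finset.mem_univ _), Finset.card_univ, smul_eq_mul,
        AddChar.card_eq, card_one hq (steps_ok s hs).2.2.2.1]
    have h3 : FixL ρ (U φ hD) (s.root :: s.pre) =
        (FixL ρ (U φ hD) s.pre ⊓ eig ρ (U φ hD s.root) 1 : Submodule ℂ V) := by
      rw [FixL_cons, inf_comm]; rfl
    rw [h3]
    omega
  intro s L
  induction L generalizing s with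
  | nil =>
    intro hmem _
    have := hone s (hmem s (List.mem_singleton_self _))
    simp only [List.map_cons, List.map_nil, List.sum_cons, List.sum_nil]
    omega
  | cons t L ih =>
    intro hmem hch
    have h1 := hone s (hmem s (List.mem_cons_self ..))
    have h2 := ih t (fun u hu => hmem u (List.mem_cons_of_mem _ hu)) hch.2
    have h3 : finrank ℂ (FixL ρ (U φ hD) t.pre) ≤ finrank ℂ (FixL ρ (U φ hD) (s.root :: s.pre)) :=
      Submodule.finrank_mono fun v hv => (mem_FixL ρ).2 fun x hx => (mem_FixL ρ).1 hv x (hch.1 x hx)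
    simp only [List.map_cons, List.sum_cons] at h2 ⊢
    omega

omit hq

/-- The sum of the steps. -/
def bound (q : ℕ) : ℕ := ((steps.map Step.expo).map fun m => (q - 1) * q ^ m).sum

include hq

theorem le_of_small (h : Small (q := q) ρ 46) (h' : Small (q := q) ρ 39) : bound q ≤ finrank ℂ V := by
  have hne : steps = steps.head (by decide +kernel) :: steps.tail := (List.cons_head_tail _).symm
  have h1 := count hq ρ h h' (steps.head (by decide +kernel)) steps.tail (fun t ht => hne ▸ ht)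
    (hne ▸ steps_chained)
  rw [← hne] at h1
  refine le_trans (le_of_eq ?_) (h1.trans (Submodule.finrank_le _))
  rw [bound, List.map_map]
  rfl

/-! ### Large eigenspaces -/

/-- A torus scaling of a long simple orbit by the neighbouring long node. -/
abbrev TorOK (a b : Fin 4) : Prop :=
  e6Twist.len (chevE6.simple (e6Node a).val) = 1 ∧ e6Twist.len (chevE6.simple (e6Node b).val) = 1 ∧
    chevE6.cartan (e6Node b).val (chevE6.simple (e6Node a).val) = -1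

theorem scale {a b : Fin 4} (hab : TorOK a b) {al : ℕ} (hal : al = chevE6.simple (e6Node a).val)
    {χ χ' : AddChar (Pr φ al) ℂ} (hχ : χ ≠ 1) (hχ' : χ' ≠ 1) :
    finrank ℂ (eig ρ (U φ hD al) χ) ≤ finrank ℂ (eig ρ (U φ hD al) χ') := by
  classical
  subst hal
  obtain ⟨la, lb, hcar⟩ := hab
  obtain ⟨r, hr⟩ : ∃ r, r = chevE6.simple (e6Node a).val := ⟨_, rfl⟩
  let mu : Pr φ (chevE6.simple (e6Node a).val) → (Pr φ (chevE6.simple (e6Node a).val) →+
      Pr φ (chevE6.simple (e6Node a).val)) := fun l => AddMonoidHom.mk'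
    (fun t => ⟨(l : K) * t, by rw [mem_one la, map_mul, (mem_one la).1 l.2, (mem_one la).1 t.2]⟩)
    fun s t => Subtype.ext (mul_add _ _ _)
  have hinj : Function.Injective fun l => χ.compAddMonoidHom (mu l) := by
    intro l l' h
    by_contra hne
    refine hχ (AddChar.ext _ _ fun w => ?_)
    have hd : (l : K) - l' ≠ 0 := sub_ne_zero.2 fun e => hne (Subtype.ext e)
    obtain ⟨t, ht⟩ : ∃ t : Pr φ (chevE6.simple (e6Node a).val), (t : K) = (w : K) / ((l : K) - l') :=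
      ⟨⟨_, by rw [mem_one la, map_div₀, map_sub, (mem_one la).1 l.2, (mem_one la).1 l'.2,
        (mem_one la).1 w.2]⟩, rfl⟩
    have hw : mu l t = mu l' t + w := Subtype.ext (by
      show (l : K) * t = (l' : K) * t + w
      rw [ht]; field_simp; ring)
    have h1 := DFunLike.congr_fun h t
    simp only [AddChar.compAddMonoidHom_apply] at h1
    rw [hw, AddChar.map_add_eq_mul] at h1
    exact (mul_eq_left₀ (AddChar.val_isUnit χ _).ne_zero).1 h1
  obtain ⟨l, hl⟩ := ((Fintype.bijective_iff_injective_and_card _).2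
    ⟨hinj, (AddChar.card_eq).symm⟩).2 χ'
  have hl0 : (l : K) ≠ 0 := fun e => hχ' (by
    rw [← hl]
    refine AddChar.ext _ _ fun t => ?_
    rw [AddChar.compAddMonoidHom_apply, AddChar.one_apply,
      show mu l t = 0 from Subtype.ext (show (l : K) * t = 0 by rw [e, zero_mul]), AddChar.map_zero_eq_one])
  obtain ⟨u, hu⟩ : ∃ u : Kˣ, (u : K) = l := ⟨Units.mk0 _ hl0, rfl⟩
  have hPb : (ctxE6 hD φ).Pm b (u : K) := by
    refine mem_Pr.1 ((mem_one lb).2 ?_)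
    rw [hu]; exact (mem_one la).1 l.2
  have hx := (ctxE6 hD φ).torVec_mem b hPb
  obtain ⟨g, hg⟩ : ∃ g : ↥(ctxE6 hD φ).G0, (g : GL chevE6.Idx K) = theta chevE6 K ((ctxE6 hD φ).torVec b u) :=
    ⟨⟨_, (ctxE6 hD φ).theta_mem_G0 hx⟩, rfl⟩
  have hchi : (chiX ((ctxE6 hD φ).torVec b u) ((ctxE6 hD φ).p a) : K) = (l : K)⁻¹ := by
    have hLb : (ctxE6 hD φ).L b = 1 := lb
    rw [Ctx.torVec, hLb]
    simp only [List.range_one, List.map_cons, List.map_nil, List.prod_cons, List.prod_nil, mul_one,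
      Ctx.itU_zero, chiX_single]
    show ((u ^ chevE6.cartan (e6Node b).val (chevE6.simple (e6Node a).val) : Kˣ) : K) = _
    rw [hcar, _root_.zpow_neg_one, Units.val_inv_eq_inv_val, hu]
  have key : ∀ t, g * U φ hD _ (mu l t) = U φ hD _ t * g := by
    intro t
    refine Subtype.ext ?_
    have h1 := (ctxE6 hD φ).theta_conj_op hx a ((mu l t : K))
    rw [← hg, hchi, (ctxE6 hD φ).op_eq, (ctxE6 hD φ).op_eq] at h1
    simp only [Subgroup.coe_mul]
    rw [coe_U φ hD (e6Root_ok.rep_simple a), coe_U φ hD (e6Root_ok.rep_simple a)]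
    refine (mul_inv_eq_iff_eq_mul.1 h1).trans ?_
    rw [show (l : K)⁻¹ * (mu l t : K) = (t : K) from inv_mul_cancel_left₀ hl0 _]
  have hmap : ∀ v ∈ eig ρ (U φ hD (chevE6.simple (e6Node a).val)) χ,
      ρ g v ∈ eig ρ (U φ hD (chevE6.simple (e6Node a).val)) χ' := fun v hv => (mem_eig ρ _).2 fun t => by
    rw [← rmul, ← key, rmul, (mem_eig ρ _).1 hv, map_smul, ← hl]
    rfl
  exact LinearMap.finrank_le_finrank_of_injective (f := (ρ g).restrict hmap)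
    fun v w e => Subtype.ext (rep_injective ρ g (congrArg Subtype.val e))

theorem two_mul_le {a b : Fin 4} (hab : TorOK a b) {al : ℕ} (hal : al = chevE6.simple (e6Node a).val)
    (hbig : ¬ Small (q := q) ρ al) (hact : ∀ χ : AddChar (Pr φ al) ℂ, χ ≠ 1 → eig ρ (U φ hD al) χ ≠ ⊥) :
    (q - 1) * (2 * q ^ 10) ≤ finrank ℂ V := by
  classical
  obtain ⟨χ, hχ, hD2⟩ : ∃ χ : AddChar (Pr φ al) ℂ, χ ≠ 1 ∧ 2 * q ^ 10 ≤ finrank ℂ (eig ρ (U φ hD al) χ) := by
    by_contra! hc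
    exact hbig fun χ hχ => ⟨hact χ hχ, hc χ hχ⟩
  have hlen : e6Twist.len al = 1 := hal ▸ hab.1
  have h1 := sum_finrank_le ρ (U_add φ hD al) ⊤ (Finset.univ.erase (1 : AddChar (Pr φ al) ℂ))
    (fun ψ => eig ρ (U φ hD al) ψ) fun ψ _ => le_inf le_top le_rfl
  rw [finrank_top] at h1
  refine le_trans (le_trans (le_of_eq ?_) (Finset.sum_le_sum fun ψ hψ =>
    hD2.trans (scale hq ρ hab hal hχ (Finset.ne_of_mem_erase hψ)))) h1
  rw [Finset.sum_const, Finset.card_erase_of_mem (Finset.mem_univ _), Finset.card_univ, smul_eq_mul,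
    AddChar.card_eq, card_one hq hlen]

theorem act {a b : Fin 4} (hab : TorOK a b) {al : ℕ} (hal : al = chevE6.simple (e6Node a).val)
    (hfree : ∀ g, g ≠ 1 → ρ g ≠ 1) {χ : AddChar (Pr φ al) ℂ} (hχ : χ ≠ 1) : eig ρ (U φ hD al) χ ≠ ⊥ := by
  have hrep : al ∈ e6Twist.reps := hal ▸ e6Root_ok.rep_simple a
  have h1 : (1 : K) ∈ Pr φ al := by simp [mem_Pr, ← RingHom.coe_pow]
  obtain ⟨v, hv⟩ : ∃ v, ρ (U φ hD al ⟨1, h1⟩) v ≠ v := by
    by_contra! hc
    refine hfree _ (fun e => ?_) (LinearMap.ext hc)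
    have h0 : U φ hD al ⟨1, h1⟩ = U φ hD al 0 := by rw [e, map_zero' _ (U_add φ hD al)]
    exact one_ne_zero (congrArg Subtype.val (U_inj φ hD hrep h0))
  obtain ⟨ψ, hψ, hne⟩ := exists_char_of_moves ρ (U φ hD al) (U_add φ hD al) hv
  intro hbot
  have h2 := scale hq ρ hab hal (χ := ψ) (χ' := χ) (fun e => hψ (by rw [e, AddChar.one_apply])) hχ
  rw [hbot, finrank_bot, Nat.le_zero, Submodule.finrank_eq_zero] at h2
  exact hne h2

omit hq in
theorem torTwo : TorOK 0 1 ∧ 46 = chevE6.simple (e6Node 0).val := by decide +kernel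

omit hq in
theorem torFour : TorOK 1 0 ∧ 39 = chevE6.simple (e6Node 1).val := by decide +kernel

/-- The lower bound for faithful representations. -/
theorem degree_le (hfree : ∀ g, g ≠ 1 → ρ g ≠ 1) (hB : bound q + 2 ≤ (q - 1) * (2 * q ^ 10)) :
    bound q ≤ finrank ℂ V := by

  by_cases h : Small (q := q) ρ 46
  · by_cases h' : Small (q := q) ρ 39
    · exact le_of_small hq ρ h h'
    · have := two_mul_le hq ρ torFour.1 torFour.2 h' fun χ hχ => act hq ρ torFour.1 torFour.2 hfree hχ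
      omega
  · have := two_mul_le hq ρ torTwo.1 torTwo.2 h fun χ hχ => act hq ρ torTwo.1 torTwo.2 hfree hχ
    omega

end Cfsg.Agent.TwistE6Min
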