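import Cfsg.Agent.Lib.TwistE6MinDegree.Rules
import Cfsg.Agent.EqLemmas

/-!
# The two long simple roots p₂ = 46 and p₄ = 39: pairs and derivations
-/

set_option autoImplicit false
set_option maxRecDepth 100000
set_option synthInstance.maxSize 2000

namespace Cfsg.Agent.TwistE6Min

open Cfsg.Lie Cfsg.Lie.ChevalleyDatum Cfsg.Agent.Chev Cfsg.Agent.TwistE6D4

/-- The pairs of the Heisenberg group at 46. -/
def pairsTwo : List (ℕ × ℕ × ℤ) := [(47, 32, (-1 : ℤ)), (48, 28, (1 : ℤ)), (49, 13, (-1 : ℤ)), (51, 27, (1 : ℤ)), (52, 12, (-1 : ℤ)), (63, 11, (1 : ℤ)), (71, 1, (1 : ℤ))]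

/-- The positive half at 46. -/
def halfTwo : List ℕ := [47, 48, 49, 51, 52, 63, 71]

/-- The roots shown to fix a line vector at 46. -/
def excTwo : List ℕ := [38, 39, 40, 41, 42, 44, 45, 47, 48, 49, 51, 52, 53, 54, 55, 56, 60, 63, 65, 66, 69, 70, 71]

/-- The derivation at 46. -/
def rulesTwo : List Rule :=
  [.stab 56,
   .stab 42,
   .stab 38,
   .stab 53,
   .stab 54,
   .stab 55,
   .stab 65,
   .stab 66,
   .stab 69,
   .stab 70,
   .sl2 2,
   .sl2 3,
   .conjF 2 56,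
   .chain 53 38 55 69 (1) (1) false,
   .comm 38 54 66 (1) false true,
   .chain 53 56 54 65 (-1) (1) true,
   .stab 60,
   .conjH 3 60,
   .conjF 3 65,
   .chain 44 56 45 60 (-1) (1) true,
   .comm 44 65 70 (-1) false false,
   .stab 39,
   .stab 40,
   .stab 41,
   .conjF 2 45,
   .conjF 3 41,
   .conjF 3 60,
   .conjF 2 44]

theorem pairsTwo_ok : ∀ e ∈ pairsTwo, PairOK 46 e.1 e.2.1 e.2.2 := by decide +kernel

theorem pairsTwo_fst : pairsTwo.map (fun e => e.1) = halfTwo := rfl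

theorem pairsTwo_com : pairsTwo.Pairwise fun e f =>
    ComOK f.2.1 e.1 ∧ ComOK f.1 e.1 := by decide +kernel

theorem pairsTwo_com_al : ∀ e ∈ pairsTwo, ComOK e.1 46 ∧ ComOK e.2.1 46 := by decide +kernel

theorem nodesTwo_ok : ∀ a : Fin 4, a.val ∈ ([2, 3] : List ℕ) → NodeOK 46 halfTwo a := by decide +kernel

theorem runTwo_ok : Run 46 halfTwo [2, 3] excTwo [] rulesTwo halfTwo (46 :: halfTwo) := by
  decide +kernel

/-- The pairs of the Heisenberg group at 39. -/
def pairsFour : List (ℕ × ℕ × ℤ) := [(40, 29, (-1 : ℤ)), (41, 14, (1 : ℤ)), (47, 25, (1 : ℤ)), (53, 20, (1 : ℤ)), (54, 9, (-1 : ℤ)), (65, 8, (1 : ℤ)), (70, 2, (1 : ℤ))]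

/-- The positive half at 39. -/
def halfFour : List ℕ := [40, 41, 47, 53, 54, 65, 70]

/-- The roots shown to fix a line vector at 39. -/
def excFour : List ℕ := [38, 40, 41, 42, 44, 45, 47, 48, 49, 51, 52, 53, 54, 55, 56, 60, 63, 65, 66, 69, 70, 71]

/-- The derivation at 39. -/
def rulesFour : List Rule :=
  [.stab 56,
   .stab 44,
   .stab 45,
   .stab 48,
   .stab 49,
   .stab 55,
   .stab 60,
   .stab 66,
   .stab 71,
   .sl2 3,
   .chain 44 49 55 71 (1) (1) false,
   .chain 44 56 45 60 (-1) (1) true,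
   .comm 45 49 66 (-1) true false,
   .comm 48 56 49 (-1) false true,
   .stab 51,
   .stab 52,
   .stab 63,
   .stab 69,
   .conjF 3 49,
   .conjF 3 60,
   .comm 44 63 69 (-1) false false,
   .chain 51 56 52 63 (-1) (1) true,
   .stab 46,
   .stab 38,
   .conjH 3 38,
   .conjF 3 63,
   .comm 42 56 38 (-1) true true,
   .conjF 3 38]

theorem pairsFour_ok : ∀ e ∈ pairsFour, PairOK 39 e.1 e.2.1 e.2.2 := by decide +kernel

theorem pairsFour_fst : pairsFour.map (fun e => e.1) = halfFour := rfl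

theorem pairsFour_com : pairsFour.Pairwise fun e f =>
    ComOK f.2.1 e.1 ∧ ComOK f.1 e.1 := by decide +kernel

theorem pairsFour_com_al : ∀ e ∈ pairsFour, ComOK e.1 39 ∧ ComOK e.2.1 39 := by decide +kernel

theorem nodesFour_ok : ∀ a : Fin 4, a.val ∈ ([3] : List ℕ) → NodeOK 39 halfFour a := by decide +kernel

theorem runFour_ok : Run 39 halfFour [3] excFour [46] rulesFour halfFour (39 :: halfFour) := by
  decide +kernel

theorem four_half_two : (∀ a ∈ halfTwo, a ∈ excFour) ∧ 39 ∈ excTwo := by decide +kernel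

end Cfsg.Agent.TwistE6Min
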