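import Cfsg.Agent.Lib.SUMinDegree.Eigen
import Cfsg.Agent.EqLemmas

/-!
# Eigenspaces of families of abelian subgroups paired by commutators

* `Fixed`, `sum_finrank_le`: fixed vectors; independence of eigenspaces.
* `Pair`: the elements of `x` move the characters of `y` on `E` simply transitively.
* `pow_le`, `exists_fix`: for a list of pairs, fixed vectors and dimensions.
-/

set_option autoImplicit false
set_option linter.unusedSectionVars false

namespace Cfsg.Agent.TwistE6Min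

open Module Cfsg.Agent.SUMinDegree

variable {G : Type*} [Group G] {V : Type*} [AddCommGroup V] [Module ℂ V] (ρ : Representation ℂ G V)

theorem rmul (g h : G) (v : V) : ρ (g * h) v = ρ g (ρ h v) := by rw [map_mul, Module.End.mul_apply]

theorem rinv (g : G) (v : V) : ρ g⁻¹ (ρ g v) = v := by
  rw [← rmul, inv_mul_cancel, map_one, Module.End.one_apply]

theorem rinv' (g : G) (v : V) : ρ g (ρ g⁻¹ v) = v := by
  rw [← rmul, mul_inv_cancel, map_one, Module.End.one_apply]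

/-- The vectors fixed by a one-parameter family. -/
noncomputable def Fixed {S : Type*} [AddCommGroup S] (x : S → G) : Submodule ℂ V := eig ρ x 1

theorem mem_Fixed {S : Type*} [AddCommGroup S] {x : S → G} {v : V} :
    v ∈ Fixed ρ x ↔ ∀ c, ρ (x c) v = v := by
  simp [Fixed, mem_eig]

section One

variable {S : Type*} [AddCommGroup S] [Fintype S] {x : S → G} (hx : ∀ a b, x (a + b) = x a * x b)

theorem proj_mapsTo (W : Submodule ℂ V) (hW : ∀ c, ∀ v ∈ W, ρ (x c) v ∈ W) (ψ : AddChar S ℂ) {v : V}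
    (hv : v ∈ W) : proj ρ x ψ v ∈ W := by
  simp only [proj, LinearMap.smul_apply, LinearMap.sum_apply]
  exact W.smul_mem _ (W.sum_mem fun c _ => W.smul_mem _ (hW c v hv))

include hx

theorem proj_other {ψ ξ : AddChar S ℂ} (h : ψ ≠ ξ) {v : V} (hv : v ∈ eig ρ x ξ) : proj ρ x ψ v = 0 := by
  rw [mem_eig] at hv
  simp only [proj, LinearMap.smul_apply, LinearMap.sum_apply, hv, smul_smul, ← Finset.sum_smul]
  have : ∑ c, ψ (-c) * ξ c = 0 := by
    have h1 : (ψ⁻¹ * ξ : AddChar S ℂ) ≠ 1 := fun e => h (inv_mul_eq_one.1 e)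
    have h2 := AddChar.sum_eq_zero_of_ne_one h1
    simpa [AddChar.mul_apply, AddChar.inv_apply] using h2
  simp [this]

/-- Independence of the eigenspaces. -/
theorem sum_finrank_le [FiniteDimensional ℂ V] (W : Submodule ℂ V) (s : Finset (AddChar S ℂ))
    (E : AddChar S ℂ → Submodule ℂ V) (hE : ∀ ψ ∈ s, E ψ ≤ W ⊓ eig ρ x ψ) :
    ∑ ψ ∈ s, finrank ℂ (E ψ) ≤ finrank ℂ W := by
  classical
  let Φ : ((ψ : ↥s) → E ψ.1) →ₗ[ℂ] V := ∑ ψ : ↥s, (E ψ.1).subtype ∘ₗ LinearMap.proj ψ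
  have hΦ : ∀ f, Φ f = ∑ ψ : ↥s, (f ψ : V) := fun f => by simp [Φ]
  have hinj : Function.Injective Φ := by
    refine LinearMap.ker_eq_bot.1 (LinearMap.ker_eq_bot'.2 fun f hf => funext fun ψ => Subtype.ext ?_)
    have := congrArg (proj ρ x ψ.1) ((hΦ f).symm.trans hf)
    rw [map_sum, map_zero, Finset.sum_eq_single ψ (fun ξ _ hξ => proj_other ρ hx
      (fun e => hξ (Subtype.ext e.symm)) (hE ξ.1 ξ.2 (f ξ).2).2) (fun h => absurd (Finset.mem_univ ψ) h),
      (isProj_proj ρ x hx ψ.1).map_id _ (hE ψ.1 ψ.2 (f ψ).2).2] at this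
    exact this
  have h1 : LinearMap.range Φ ≤ W := by
    rintro _ ⟨f, rfl⟩
    rw [hΦ]
    exact W.sum_mem fun ψ _ => (hE ψ.1 ψ.2 (f ψ).2).1
  have h2 := Submodule.finrank_mono h1
  rw [LinearMap.finrank_range_of_inj hinj, Module.finrank_pi_fintype] at h2
  rwa [Finset.sum_coe_sort s fun ψ => finrank ℂ ↥(E ψ)] at h2

end One

/-- `x` moves the characters of `y` on `E` simply transitively. -/
def Pair {Q P : Type*} [AddCommGroup Q] [AddCommGroup P] (E : Submodule ℂ V) (y : Q → G) (x : P → G) : Prop :=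
  ∃ θ : P → AddChar Q ℂ, Function.Bijective θ ∧
    ∀ s a, ∀ v ∈ E, ρ (y a) (ρ (x s) v) = θ s a • ρ (x s) (ρ (y a) v)

section TwoPar

variable {Q P : Type*} [AddCommGroup Q] [AddCommGroup P] [Fintype Q] [Fintype P] [FiniteDimensional ℂ V]
  {E : Submodule ℂ V} {y : Q → G} {x : P → G} (hy : ∀ a b, y (a + b) = y a * y b)

include hy

theorem Pair.mul_fix_le (h : Pair ρ E y x) {X : Submodule ℂ V} (hX : X ≤ E)
    (hinv : ∀ s, ∀ v ∈ X, ρ (x s) v ∈ X) :
    Fintype.card P * finrank ℂ (X ⊓ Fixed ρ y : Submodule ℂ V) ≤ finrank ℂ X := by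
  classical
  obtain ⟨θ, hθ, hsh⟩ := h
  let e := Equiv.ofBijective θ hθ
  refine le_trans (le_of_eq ?_) (sum_finrank_le ρ hy X Finset.univ
    (fun ψ => (X ⊓ Fixed ρ y : Submodule ℂ V).map (ρ (x (e.symm ψ)))) ?_)
  · rw [Finset.sum_congr rfl fun ψ _ => (Submodule.equivMapOfInjective _ (rep_injective ρ _) _).finrank_eq.symm,
      Finset.sum_const, Finset.card_univ, smul_eq_mul, Fintype.card_congr e]
  · rintro ψ - _ ⟨v, ⟨hv, hvy⟩, rfl⟩
    refine ⟨hinv _ v hv, (mem_eig ρ y).2 fun a => ?_⟩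
    rw [hsh _ a v (hX hv), (mem_Fixed ρ).1 hvy a]
    congr 1
    exact DFunLike.congr_fun (e.apply_symm_apply ψ) a

theorem Pair.exists_fix (h : Pair ρ E y x) {X : Submodule ℂ V} (hX : X ≤ E)
    (hinv : ∀ s, ∀ v ∈ X, ρ (x s) v ∈ X) (hinv' : ∀ a, ∀ v ∈ X, ρ (y a) v ∈ X) (hne : X ≠ ⊥) :
    X ⊓ Fixed ρ y ≠ ⊥ := by
  obtain ⟨θ, hθ, hsh⟩ := h
  obtain ⟨v, hv, hv0⟩ := (Submodule.ne_bot_iff _).1 hne
  obtain ⟨ψ, hψ⟩ : ∃ ψ : AddChar Q ℂ, proj ρ y ψ v ≠ 0 := by
    by_contra! hc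
    exact hv0 (by rw [← sum_proj ρ y hy v]; exact Finset.sum_eq_zero fun ψ _ => hc ψ)
  obtain ⟨s, hs⟩ := hθ.2 ψ⁻¹
  have hu : proj ρ y ψ v ∈ X := proj_mapsTo ρ X hinv' ψ hv
  refine (Submodule.ne_bot_iff _).2 ⟨ρ (x s) (proj ρ y ψ v),
    ⟨hinv s _ hu, (mem_Fixed ρ).2 fun a => ?_⟩,
    fun e => hψ (rep_injective ρ (x s) (e.trans (map_zero _).symm))⟩
  rw [hsh s a _ (hX hu), (mem_eig ρ y).1 ((isProj_proj ρ y hy ψ).map_mem v) a, map_smul, smul_smul, hs,
    ← AddChar.mul_apply, inv_mul_cancel, AddChar.one_apply, one_smul]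

end TwoPar

/-! ### Elements acting on a line -/

/-- A commutator of elements with scalar action on a vector fixes it. -/
theorem comm_fix {v : V} {g h z : G} (hz : g * h = z * (h * g)) {a b : ℂ} (hg : ρ g v = a • v)
    (hh : ρ h v = b • v) : ρ z v = v := by
  rcases eq_or_ne v 0 with rfl | hv
  · exact map_zero _
  have h1 := congrArg (fun x => ρ x v) hz
  simp only [rmul, hg, hh, map_smul, smul_smul] at h1
  have hab : a * b ≠ 0 := by
    intro h0
    rcases mul_eq_zero.1 h0 with h0 | h0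
    · exact hv (rep_injective ρ g (by rw [hg, h0, zero_smul, map_zero]))
    · exact hv (rep_injective ρ h (by rw [hh, h0, zero_smul, map_zero]))
  rw [mul_comm b a] at h1
  exact ((smul_right_injective V hab) h1).symm

/-! ### Lists of pairs -/

variable {ι : Type*} {P : ι → Type*} [∀ i, AddCommGroup (P i)] {U : ∀ i, P i → G}
  (hU : ∀ i a b, U i (a + b) = U i a * U i b)

/-- Commuting families. -/
def Com (U : ∀ i, P i → G) (i j : ι) : Prop := ∀ a b, U i a * U j b = U j b * U i a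

theorem Com.inv_Fixed {i j : ι} (h : Com U i j) (a : P i) {v : V} (hv : v ∈ Fixed ρ (U j)) :
    ρ (U i a) v ∈ Fixed ρ (U j) :=
  (mem_Fixed ρ).2 fun b => by rw [← rmul, ← h, rmul, (mem_Fixed ρ).1 hv b]

/-- The vectors fixed by the families of a list. -/
noncomputable def FixL (U : ∀ i, P i → G) (L : List ι) : Submodule ℂ V := ⨅ i ∈ L, Fixed ρ (U i)

theorem mem_FixL {L : List ι} {v : V} : v ∈ FixL ρ U L ↔ ∀ i ∈ L, ∀ a, ρ (U i a) v = v := by
  simp [FixL, Submodule.mem_iInf, mem_Fixed]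

theorem FixL_cons (i : ι) (L : List ι) : FixL ρ U (i :: L) = Fixed ρ (U i) ⊓ FixL ρ U L := by
  ext v
  simp [Submodule.mem_inf, mem_FixL, mem_Fixed]

variable [∀ i, Fintype (P i)] [FiniteDimensional ℂ V] {E : Submodule ℂ V}

include hU

theorem pow_le : ∀ L : List (ι × ι), (∀ e ∈ L, Pair ρ E (U e.1) (U e.2)) →
    L.Pairwise (fun e f => Com U f.2 e.1) → ∀ X : Submodule ℂ V, X ≤ E →
    (∀ e ∈ L, ∀ s, ∀ v ∈ X, ρ (U e.2 s) v ∈ X) →
    (L.map fun e => Fintype.card (P e.2)).prod * finrank ℂ (X ⊓ FixL ρ U (L.map Prod.fst) : Submodule ℂ V) ≤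
      finrank ℂ X
  | [], _, _, X, _, _ => by
    simp only [List.map_nil, List.prod_nil, one_mul]
    exact Submodule.finrank_mono inf_le_left
  | e :: L, hP, hC, X, hX, hinv => by
    obtain ⟨hC1, hC2⟩ := List.pairwise_cons.1 hC
    have ih := pow_le L (fun f hf => hP f (List.mem_cons_of_mem _ hf)) hC2 (X ⊓ Fixed ρ (U e.1))
      (inf_le_left.trans hX) fun f hf s v hv =>
        ⟨hinv f (List.mem_cons_of_mem _ hf) s v hv.1, (hC1 f hf).inv_Fixed ρ s hv.2⟩
    rw [inf_assoc, ← FixL_cons] at ih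
    simp only [List.map_cons, List.prod_cons]
    rw [mul_assoc]
    exact le_trans (Nat.mul_le_mul_left _ ih)
      ((hP e (List.mem_cons_self ..)).mul_fix_le ρ (hU e.1) hX (hinv e (List.mem_cons_self ..)))

theorem exists_fix : ∀ L : List (ι × ι), (∀ e ∈ L, Pair ρ E (U e.1) (U e.2)) →
    L.Pairwise (fun e f => Com U f.2 e.1 ∧ Com U f.1 e.1) → ∀ X : Submodule ℂ V, X ≤ E →
    (∀ e ∈ L, ∀ s, ∀ v ∈ X, ρ (U e.2 s) v ∈ X) → (∀ e ∈ L, ∀ s, ∀ v ∈ X, ρ (U e.1 s) v ∈ X) → X ≠ ⊥ →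
    X ⊓ FixL ρ U (L.map Prod.fst) ≠ ⊥
  | [], _, _, X, _, _, _, hne => by
    intro h
    refine hne (le_bot_iff.1 (h ▸ le_inf le_rfl fun v _ => (mem_FixL ρ).2 (by simp)))
  | e :: L, hP, hC, X, hX, hinv, hinv', hne => by
    obtain ⟨hC1, hC2⟩ := List.pairwise_cons.1 hC
    have h1 := (hP e (List.mem_cons_self ..)).exists_fix ρ (hU e.1) hX (hinv e (List.mem_cons_self ..))
      (hinv' e (List.mem_cons_self ..)) hne
    have ih := exists_fix L (fun f hf => hP f (List.mem_cons_of_mem _ hf)) hC2 (X ⊓ Fixed ρ (U e.1))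
      (inf_le_left.trans hX)
      (fun f hf s v hv => ⟨hinv f (List.mem_cons_of_mem _ hf) s v hv.1, (hC1 f hf).1.inv_Fixed ρ s hv.2⟩)
      (fun f hf s v hv => ⟨hinv' f (List.mem_cons_of_mem _ hf) s v hv.1, (hC1 f hf).2.inv_Fixed ρ s hv.2⟩) h1
    rwa [inf_assoc, ← FixL_cons] at ih

end Cfsg.Agent.TwistE6Min
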