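import Cfsg.Agent.Lib.TwistE6MinDegree.Count
import Cfsg.Agent.Lib.TwistE6MinDegree.Arith
import Cfsg.Agent.Lib.TwistE6D4.Orders
import Cfsg.Agent.Lib.Char.Integral
import Cfsg.Agent.EqLemmas

/-!
# The smallest degree of a non-trivial irreducible complex representation of ²E₆(q)
-/

set_option autoImplicit false
set_option linter.unusedSectionVars false

namespace Cfsg.Agent.TwistE6Min

open Module Cfsg.Lie Cfsg.Lie.ChevalleyDatum Cfsg.Agent.Chev Cfsg.Agent.TwistE6D4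

/-- The bound. -/
def tBound (q : ℕ) : ℕ := q * (q ^ 6 - q ^ 3 + 1) * (q ^ 4 + 1)

theorem tBound_eq {q : ℕ} (hq : 1 ≤ q) :
    (tBound q : ℤ) = (q : ℤ) ^ 11 - (q : ℤ) ^ 8 + (q : ℤ) ^ 7 + (q : ℤ) ^ 5 - (q : ℤ) ^ 4 + q := by
  have h : q ^ 3 ≤ q ^ 6 := Nat.pow_le_pow_right hq (by norm_num)
  simp only [tBound, Nat.cast_mul, Nat.cast_add, Nat.cast_sub h, Nat.cast_pow, Nat.cast_one]
  ring

theorem bound_eq {q : ℕ} (hq : 1 ≤ q) : (bound q : ℤ) = (tBound q : ℤ) - 2 := by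
  rw [bound, steps_expo, tBound_eq hq]
  simp only [List.map_cons, List.map_nil, List.sum_cons, List.sum_nil, Nat.cast_add, Nat.cast_mul,
    Nat.cast_sub hq, Nat.cast_pow, Nat.cast_one, Nat.cast_zero]
  ring

theorem bound_le {q : ℕ} (hq : 2 ≤ q) : bound q + 2 ≤ (q - 1) * (2 * q ^ 10) := by
  have h := bound_eq (show 1 ≤ q by omega)
  rw [tBound_eq (show 1 ≤ q by omega)] at h
  have hx : (2 : ℤ) ≤ q := by exact_mod_cast hq
  have h2 : ((bound q + 2 : ℕ) : ℤ) ≤ (((q - 1) * (2 * q ^ 10) : ℕ) : ℤ) := by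
    simp only [Nat.cast_add, Nat.cast_mul, Nat.cast_sub (show 1 ≤ q by omega), Nat.cast_pow, Nat.cast_one,
      Nat.cast_ofNat, h]
    have e : ∀ k, 0 ≤ (q : ℤ) ^ k := fun k => pow_nonneg (by omega) k
    nlinarith [mul_nonneg (e 10) (show (0 : ℤ) ≤ q - 2 by omega), mul_nonneg (e 7) (show (0 : ℤ) ≤ q - 1 - 1 by omega),
      mul_le_mul_of_nonneg_left (show (2 : ℤ) ≤ q ^ 1 by simpa using hx) (e 7),
      pow_le_pow_right₀ (show (1 : ℤ) ≤ q by omega) (show 5 ≤ 7 by norm_num),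
      pow_le_pow_right₀ (show (1 : ℤ) ≤ q by omega) (show 1 ≤ 4 by norm_num)]
  exact_mod_cast h2

theorem not_dvd {q : ℕ} (hq : IsPrimePow q) {k : ℕ} (hk : (k : ℤ) = tBound q - 1 ∨ (k : ℤ) = tBound q - 2)
    (hdvd : k ∣ q ^ 36 * (q ^ 2 - 1) * (q ^ 5 + 1) * (q ^ 6 - 1) * (q ^ 8 - 1) * (q ^ 9 + 1) * (q ^ 12 - 1)) :
    False := by
  have h2 := hq.two_le
  have hx : (2 : ℤ) ≤ q := by exact_mod_cast h2
  have h1 : ∀ m, 1 ≤ q ^ m := fun m => Nat.one_le_pow _ _ (by omega)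
  have hd : (k : ℤ) ∣ (q : ℤ) ^ 36 * nOrd q := by
    have := Int.natCast_dvd_natCast.2 hdvd
    simp only [Nat.cast_mul, Nat.cast_add, Nat.cast_sub (h1 _), Nat.cast_pow, Nat.cast_one] at this
    simpa [nOrd, mul_assoc] using this
  rw [tBound_eq (by omega)] at hk
  obtain ⟨x, hxq⟩ : ∃ x : ℤ, x = q := ⟨_, rfl⟩
  rw [← hxq] at hk hd hx
  rcases hk with hk | hk <;> rw [hk] at hd
  · refine not_dvd_one hx (IsCoprime.dvd_of_dvd_mul_left (IsCoprime.pow_right ?_) hd)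
    exact ⟨-1, x ^ 10 - x ^ 7 + x ^ 6 + x ^ 4 - x ^ 3 + 1, by ring⟩
  · refine not_dvd_two hx ?_
    obtain ⟨p, n, hp, hn, hpn⟩ := (isPrimePow_nat_iff q).1 hq
    by_cases hp2 : p = 2
    · rcases eq_or_ne n 1 with rfl | hn1
      · have hq2 : x = 2 := by rw [hxq, ← hpn, hp2]; norm_num
        subst hq2
        exfalso
        norm_num [nOrd] at hd
      · obtain ⟨m, hm⟩ : ∃ m : ℤ, x = 4 * m := by
          have h4 : (2 ^ 2 : ℕ) ∣ 2 ^ n := Nat.pow_dvd_pow 2 (by omega)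
          obtain ⟨m, hm⟩ := h4
          exact ⟨m, by rw [hxq, ← hpn, hp2, hm]; push_cast; ring⟩
        -- half of T - 2 is prime to x
        obtain ⟨b, hb⟩ : ∃ b, b = x ^ 10 - x ^ 7 + x ^ 6 + x ^ 4 - x ^ 3 + 1 := ⟨_, rfl⟩
        have hh : x ^ 11 - x ^ 8 + x ^ 7 + x ^ 5 - x ^ 4 + x - 2 = 2 * (2 * m * b - 1) := by
          rw [hb, hm]; ring
        rw [hh] at hd ⊢
        have hcop : IsCoprime (2 * m * b - 1) (x ^ 36) :=
          IsCoprime.pow_right ⟨-1 - 2 * m * b, m * b * b, by rw [hm]; ring⟩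
        exact mul_dvd_mul_left 2 (hcop.dvd_of_dvd_mul_left ((dvd_mul_left _ 2).trans hd))
    · have hodd : Odd x := by
        rw [hxq, Int.odd_coe_nat, ← hpn]
        exact (hp.odd_of_ne_two hp2).pow
      obtain ⟨m, hm⟩ := hodd
      refine (IsCoprime.dvd_of_dvd_mul_left (IsCoprime.pow_right ?_) hd).mul_left 2
      exact ⟨m, 1 - m * (x ^ 10 - x ^ 7 + x ^ 6 + x ^ 4 - x ^ 3 + 1), by rw [hm]; ring⟩

variable {K : Type*} [Field K] [Fintype K] (hD : Good chevE6) {φ : K →+* K} {q : ℕ}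

theorem min_degree (h : Hyp (ctxE6 hD φ) q 2) (hp : IsPrimePow q) {G : Subgroup (GL chevE6.Idx K)}
    (e : G = (ctxE6 hD φ).G0) (hsimp : IsSimpleGroup ↥G)
    (hcard : Nat.gcd 3 (q + 1) * Nat.card ↥G =
      q ^ 36 * (q ^ 2 - 1) * (q ^ 5 + 1) * (q ^ 6 - 1) * (q ^ 8 - 1) * (q ^ 9 + 1) * (q ^ 12 - 1))
    {k : ℕ} (ρ : Representation ℂ ↥G (Fin k → ℂ)) (hρ : ρ.IsIrreducible) (hk : 2 ≤ k) : tBound q ≤ k := by
  subst e
  obtain ⟨g, hg⟩ : ∃ g, ρ g ≠ 1 := by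
    by_contra hc
    push Not at hc
    let i : Fin k := ⟨0, by omega⟩
    let W : Subrepresentation ρ :=
      ⟨ℂ ∙ (Pi.single i 1 : Fin k → ℂ), fun g v hv => by rw [hc g]; exact hv⟩
    have h1 : finrank ℂ W.toSubmodule = 1 :=
      finrank_span_singleton (by simp [i] : (Pi.single i 1 : Fin k → ℂ) ≠ 0)
    rcases IsSimpleOrder.eq_bot_or_eq_top W with h | h
    · rw [h] at h1
      have h2 : finrank ℂ ((⊥ : Subrepresentation ρ).toSubmodule) = 0 := finrank_bot ℂ _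
      omega
    · rw [h] at h1
      have h2 : finrank ℂ ((⊤ : Subrepresentation ρ).toSubmodule) = k :=
        (finrank_top ℂ (Fin k → ℂ)).trans (Module.finrank_fin_fun ℂ)
      omega
  have hfree : ∀ x, x ≠ 1 → ρ x ≠ 1 := by
    intro x hx hx1
    rcases IsSimpleGroup.eq_bot_or_eq_top_of_normal ρ.ker inferInstance with hk' | hk'
    · exact hx (Subgroup.mem_bot.1 (hk' ▸ show x ∈ ρ.ker from hx1))
    · exact hg (show g ∈ ρ.ker from hk' ▸ Subgroup.mem_top g)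
  have hle := degree_le h ρ hfree (bound_le h.one_lt)
  rw [Module.finrank_fin_fun] at hle
  have := hρ
  have hdvd := Char.degree_dvd_card ρ
  rw [Module.finrank_fin_fun] at hdvd
  have hb := bound_eq (show 1 ≤ q by have := h.one_lt; omega)
  by_contra hlt
  exact not_dvd hp (k := k) (by omega) (hcard ▸ hdvd.mul_left _)

end Cfsg.Agent.TwistE6Min
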