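import Cfsg.Agent.Lib.TwistE6D4.Facts
import Cfsg.Agent.Lib.TwistE6D4.CollectInt
import Cfsg.Agent.Lib.TwistE6MinDegree.Eig
import Cfsg.Agent.EqLemmas

/-!
# Root subgroups of ²E₆ as families in the group

* `Pr`, `U`: parameters and root elements; `exists_conj`: the simple reflections permute them.
* `rel`: relations checked by collection; `Comm`, `com_of_ok`, `supp_fix`: commutators with given support.
-/

set_option autoImplicit false
set_option maxRecDepth 100000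
set_option linter.unusedSectionVars false

namespace Cfsg.Agent.TwistE6Min

open Cfsg.Lie Cfsg.Lie.ChevalleyDatum Cfsg.Agent.Chev Cfsg.Agent.TwistE6D4

/-- A root orbit: a representative. -/
abbrev rp (x : ℕ) : ℕ :=
  (e6Twist.reps.find? fun r => decide (∃ i < e6Twist.len r, e6Twist.rho^[i] r = x)).getD 0

/-- The image of an orbit under a simple reflection. -/
abbrev nx (a : Fin 4) (r : ℕ) : ℕ := rp (wF e6Twist (e6Node a) r)

theorem rp_self : ∀ r ∈ e6Twist.reps, rp r = r := by decide +kernel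

theorem len_cases : ∀ r ∈ e6Twist.reps, e6Twist.len r = 1 ∨ e6Twist.len r = 2 := by decide +kernel

variable {K : Type*} [Field K] (φ : K →+* K)

/-- The parameters of an orbit. -/
def Pr (r : ℕ) : AddSubgroup K where
  carrier := {t | (⇑φ)^[e6Twist.len r] t = t}
  add_mem' {a b} ha hb := by
    simp only [Set.mem_ofPred_eq, ← RingHom.coe_pow, map_add] at *
    rw [ha, hb]
  zero_mem' := by simp [← RingHom.coe_pow]
  neg_mem' {a} ha := by
    simp only [Set.mem_ofPred_eq, ← RingHom.coe_pow, map_neg] at *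
    rw [ha]

variable {φ}

theorem mem_Pr {r : ℕ} {t : K} : t ∈ Pr φ r ↔ (⇑φ)^[e6Twist.len r] t = t := Iff.rfl

variable (hD : Good chevE6) (φ)

theorem orb_G0 {r : ℕ} (hr : r ∈ e6Twist.reps) {t : K} (ht : t ∈ Pr φ r) :
    orb hD e6Twist φ r t ∈ (ctxE6 hD φ).G0 :=
  (ctxE6 hD φ).Uo_le_G0 e6_long ⟨r, hr⟩ ((ctxE6 hD φ).orb_mem_Uo hr ht)

/-- The root elements. -/
def U (r : ℕ) (t : Pr φ r) : ↥(ctxE6 hD φ).G0 :=
  if h : r ∈ e6Twist.reps then ⟨orb hD e6Twist φ r t.1, orb_G0 φ hD h t.2⟩ else 1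

theorem coe_U {r : ℕ} (hr : r ∈ e6Twist.reps) (t : Pr φ r) :
    (U φ hD r t : GL chevE6.Idx K) = orb hD e6Twist φ r t.1 := by rw [U, dif_pos hr]

theorem U_add (r : ℕ) (a b : Pr φ r) : U φ hD r (a + b) = U φ hD r a * U φ hD r b := by
  by_cases h : r ∈ e6Twist.reps
  · refine Subtype.ext ?_
    rw [Subgroup.coe_mul, coe_U φ hD h, coe_U φ hD h, coe_U φ hD h]
    exact (ctxE6 hD φ).orb_add h a.1 b.1
  · simp [U, h]

theorem U_inj {r : ℕ} (hr : r ∈ e6Twist.reps) : Function.Injective (U φ hD r) := fun a b h => by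
  have h' := congrArg Subtype.val h
  rw [coe_U φ hD hr, coe_U φ hD hr] at h'
  exact Subtype.ext ((ctxE6 hD φ).orb_inj hr h')

theorem U_neg (r : ℕ) (a : Pr φ r) : U φ hD r (-a) = (U φ hD r a)⁻¹ := by
  refine (inv_eq_of_mul_eq_one_right ?_).symm
  rw [← U_add, add_neg_cancel]
  exact mul_eq_left.1 (show U φ hD r 0 * U φ hD r 0 = U φ hD r 0 by rw [← U_add, add_zero])

/-- The element of a simple reflection. -/
def nn (a : Fin 4) : ↥(ctxE6 hD φ).G0 :=
  ⟨(ctxE6 hD φ).ns a 1, (ctxE6 hD φ).ns_mem_G0 a ((ctxE6 hD φ).Pm_one a)⟩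

theorem exists_conj (a : Fin 4) {r r' : ℕ} (hr : r ∈ e6Twist.reps) (h : nx a r = r') :
    r' ∈ e6Twist.reps ∧ ∃ σ : Pr φ r ≃+ Pr φ r', ∀ t, nn φ hD a * U φ hD r t = U φ hD r' (σ t) * nn φ hD a := by
  subst h
  have hm := (ctxE6 hD φ).rgd.map_conj_n a ⟨r, hr⟩
  have hr' : nx a r ∈ e6Twist.reps := ((ctxE6 hD φ).rgd.w a ⟨r, hr⟩).2
  refine ⟨hr', ?_⟩
  have h1 : ∀ t, ∃ t' : Pr φ (nx a r), nn φ hD a * U φ hD r t = U φ hD (nx a r) t' * nn φ hD a := by
    intro t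
    have hin : (ctxE6 hD φ).ns a 1 * (U φ hD r t : GL chevE6.Idx K) * ((ctxE6 hD φ).ns a 1)⁻¹ ∈
        (ctxE6 hD φ).Uo (nx a r) := by
      refine hm.le ⟨_, ?_, rfl⟩
      rw [coe_U φ hD hr]
      exact (ctxE6 hD φ).orb_mem_Uo hr t.2
    obtain ⟨u, hu, e⟩ := (ctxE6 hD φ).mem_Uo hr' hin
    refine ⟨⟨u, hu⟩, Subtype.ext ?_⟩
    rw [Subgroup.coe_mul, Subgroup.coe_mul, coe_U φ hD hr']
    exact (mul_inv_eq_iff_eq_mul.1 e)
  choose f hf using h1
  have hinj : Function.Injective f := fun s t e => U_inj φ hD hr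
    (mul_left_cancel (a := nn φ hD a) (by rw [hf, hf, e]))
  have hadd : ∀ s t, f (s + t) = f s + f t := fun s t => U_inj φ hD hr'
    (mul_right_cancel (b := nn φ hD a) (by
      rw [← hf, U_add, ← mul_assoc, hf, mul_assoc, hf, ← mul_assoc, ← U_add]))
  have hsurj : Function.Surjective f := by
    intro u
    have hin : (U φ hD (nx a r) u : GL chevE6.Idx K) ∈ (ctxE6 hD φ).rgd.U ((ctxE6 hD φ).rgd.w a ⟨r, hr⟩) := by
      rw [coe_U φ hD hr']
      exact (ctxE6 hD φ).orb_mem_Uo hr' u.2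
    rw [← hm] at hin
    obtain ⟨x, hx, e⟩ := hin
    obtain ⟨t, ht, rfl⟩ := (ctxE6 hD φ).mem_Uo hr hx
    refine ⟨⟨t, ht⟩, U_inj φ hD hr' (mul_right_cancel (b := nn φ hD a) (Eq.trans (hf _).symm (Subtype.ext ?_)))⟩
    rw [Subgroup.coe_mul, Subgroup.coe_mul, coe_U φ hD hr]
    exact (eq_mul_inv_iff_mul_eq.1 e.symm).symm
  exact ⟨AddEquiv.ofBijective (AddMonoidHom.mk' f hadd) ⟨hinj, hsurj⟩, hf⟩

/-! ### Words -/

open CollectInt (Poly norm evalW evalP)

/-- The conjugate variable. -/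
def sw (i : ℕ) : ℕ := ([1, 0, 3, 2] : List ℕ).getD i i

/-- The conjugate polynomial. -/
def cj (p : Poly) : Poly := p.foldr (fun m acc => CollectInt.addM m.1 ((m.2.map sw).foldr CollectInt.insV []) acc) []

/-- The word of an orbit element with polynomial parameter. -/
def wdP (r : ℕ) (p : Poly) : List (ℕ × Poly) :=
  if e6Twist.len r = 1 then [(r, p)]
  else [(r, p), (e6Twist.rho r, CollectInt.pmul [(e6Twist.eps r, [])] (cj p))]

/-- The word of an orbit element with variable `v`. -/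
def wd (r : ℕ) (v : ℕ) : List (ℕ × Poly) := wdP r [(1, [v])]

/-- The word of the inverse of an orbit element with variable `v`. -/
def wi (r : ℕ) (v : ℕ) : List (ℕ × Poly) := wdP r [(-1, [v])]

/-- The collection order for two roots. -/
def key (x y q : ℕ) : ℕ :=
  if rp q = y then q else if rp q = x then 100 + q else 200 + q

/-- The variables. -/
def vars (t u : K) (i : ℕ) : K := ([t, φ t, u, φ u] : List K).getD i 0

variable {φ} (hφ : ∀ t, φ (φ t) = t)
include hφ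

theorem vars_sw (t u : K) : ∀ i, vars φ t u (sw i) = φ (vars φ t u i)
  | 0 => rfl
  | 1 => (hφ t).symm
  | 2 => rfl
  | 3 => (hφ u).symm
  | i + 4 => by simp [vars, sw]

theorem evalP_cj (t u : K) (p : Poly) : evalP (vars φ t u) (cj p) = φ (evalP (vars φ t u) p) := by
  induction p with
  | nil => simp [cj, evalP]
  | cons m p ih =>
    rw [cj, List.foldr_cons, CollectInt.evalP_addM, ← cj, ih, CollectInt.foldr_insV_prod]
    have : ∀ l : List ℕ, ((l.map sw).map (vars φ t u)).prod = φ ((l.map (vars φ t u)).prod) := by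
      intro l
      rw [map_list_prod, List.map_map, List.map_map]
      exact congrArg List.prod (List.map_congr_left fun i _ => vars_sw hφ t u i)
    rw [this]
    simp [evalP]

theorem evalW_wdP {r : ℕ} (hr : r ∈ e6Twist.reps) (t u : K) (p : Poly) :
    evalW hD (vars φ t u) (wdP r p) = orb hD e6Twist φ r (evalP (vars φ t u) p) := by
  rcases len_cases r hr with h | h
  · simp [wdP, h, evalW, CollectInt.evalE, orb, cf_zero]
  · simp only [wdP, h, OfNat.ofNat_ne_one, if_false, evalW, List.map_cons, List.map_nil, List.prod_cons,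
      List.prod_nil, mul_one, CollectInt.evalE, CollectInt.evalP_pmul, evalP_cj hφ]
    simp [orb, h, List.range_succ, cf, esgn, evalP]

theorem evalW_wd {r : ℕ} (hr : r ∈ e6Twist.reps) (t u : K) (v : ℕ) :
    evalW hD (vars φ t u) (wd r v) = orb hD e6Twist φ r (vars φ t u v) := by
  rw [wd, evalW_wdP hD hφ hr]; simp [evalP]

theorem evalW_wi {r : ℕ} (hr : r ∈ e6Twist.reps) (t u : K) (v : ℕ) :
    evalW hD (vars φ t u) (wi r v) = orb hD e6Twist φ r (-vars φ t u v) := by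
  rw [wi, evalW_wdP hD hφ hr]; simp [evalP]

omit hφ

/-- The variable of a long orbit is its own conjugate. -/
def rv (x : ℕ) (i : ℕ) : ℕ := if e6Twist.len x = 1 ∧ i = 1 then 0 else i

/-- Reduction of a word modulo the conjugate variable of a long orbit. -/
def rd (x : ℕ) (W : List (ℕ × Poly)) : List (ℕ × Poly) :=
  W.map fun e => (e.1, e.2.foldr (fun m acc => CollectInt.addM m.1 ((m.2.map (rv x)).foldr CollectInt.insV []) acc) [])

theorem vars_rv {x : ℕ} (t : Pr φ x) (u : K) (i : ℕ) : vars φ t.1 u (rv x i) = vars φ t.1 u i := by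
  unfold rv
  split_ifs with h
  · obtain ⟨h1, rfl⟩ := h
    have h2 := (mem_Pr.1 t.2)
    rw [h1] at h2
    exact h2.symm
  · rfl

theorem evalW_rd {x : ℕ} (t : Pr φ x) (u : K) (W : List (ℕ × Poly)) :
    evalW hD (vars φ t.1 u) (rd x W) = evalW hD (vars φ t.1 u) W := by
  simp only [evalW, rd, List.map_map]
  refine congrArg List.prod (List.map_congr_left fun e _ => ?_)
  simp only [Function.comp_apply, CollectInt.evalE]
  congr 1
  induction e.2 with
  | nil => rfl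
  | cons m p ih =>
    rw [List.foldr_cons, CollectInt.evalP_addM, ih, CollectInt.foldr_insV_prod, List.map_map]
    simp [evalP, Function.comp_def, vars_rv t u]

/-- A relation `x y = (ks) y x`. -/
abbrev RelOK (x y : ℕ) (ks : List (ℕ × Poly)) : Prop :=
  x ∈ e6Twist.reps ∧ y ∈ e6Twist.reps ∧ (∀ e ∈ ks, e.1 ∈ e6Twist.reps) ∧
    rd x (norm chevE6 (key x y) 60 (wd x 0 ++ wd y 2)) =
      rd x (norm chevE6 (key x y) 60 ((ks.map fun e => wdP e.1 e.2).flatten ++ (wd y 2 ++ wd x 0)))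

include hφ

theorem rel {x y : ℕ} {ks : List (ℕ × Poly)} (h : RelOK x y ks) (t : Pr φ x) (u : Pr φ y) :
    (U φ hD x t : GL chevE6.Idx K) * U φ hD y u =
      ((ks.map fun e => orb hD e6Twist φ e.1 (evalP (vars φ t.1 u.1) e.2)).prod) *
        ((U φ hD y u : GL chevE6.Idx K) * U φ hD x t) := by
  obtain ⟨hx, hy, hk, h⟩ := h
  have e := congrArg (evalW hD (vars φ t.1 u.1)) h
  rw [evalW_rd hD t, evalW_rd hD t, CollectInt.evalW_norm, CollectInt.evalW_norm] at e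
  rw [CollectInt.evalW_append, CollectInt.evalW_append, CollectInt.evalW_append,
    evalW_wd hD hφ hx, evalW_wd hD hφ hy] at e
  rw [coe_U φ hD hx, coe_U φ hD hy]
  refine e.trans (congrArg (· * _) ?_)
  clear e h
  induction ks with
  | nil => rfl
  | cons a ks ih =>
    rw [List.map_cons, List.flatten_cons, CollectInt.evalW_append,
      evalW_wdP hD hφ (hk a (List.mem_cons_self ..)), ih fun e he => hk e (List.mem_cons_of_mem _ he)]
    simp

omit hφ

/-- The collected commutator word. -/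
def cw (x y : ℕ) : List (ℕ × Poly) := norm chevE6 (key x y) 60 (wi x 0 ++ (wi y 2 ++ (wd x 0 ++ wd y 2)))

/-- Two commuting roots. -/
abbrev ComOK (x y : ℕ) : Prop := x ∈ e6Twist.reps ∧ y ∈ e6Twist.reps ∧ cw x y = []

/-- The roots of the orbits in a list. -/
abbrev roots (L : List ℕ) : List ℕ := (List.range 72).filter fun q => decide (rp q ∈ L)

/-- Commutator of two roots supported on positive roots of a list. -/
abbrev SuppOK (x y : ℕ) (L : List ℕ) : Prop :=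
  x ∈ e6Twist.reps ∧ y ∈ e6Twist.reps ∧ (∀ e ∈ cw x y, e.1 < 72 ∧ rp e.1 ∈ L) ∧
    (∀ r ∈ roots L, 0 < e6Twist.ht r ∧ rp (e6Twist.rho r) ∈ L) ∧
      ∀ r ∈ roots L, ∀ s ∈ roots L, s ≠ r → ∀ τ ∈ chevE6.commTerms r s, τ.1 ∈ roots L

include hφ

theorem evalW_cw {x y : ℕ} (hx : x ∈ e6Twist.reps) (hy : y ∈ e6Twist.reps) (t : Pr φ x) (u : Pr φ y) :
    evalW hD (vars φ t.1 u.1) (cw x y) =
      (U φ hD x t : GL chevE6.Idx K)⁻¹ * (U φ hD y u : GL chevE6.Idx K)⁻¹ *
        ((U φ hD x t : GL chevE6.Idx K) * U φ hD y u) := by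
  rw [cw, CollectInt.evalW_norm, CollectInt.evalW_append, CollectInt.evalW_append, CollectInt.evalW_append,
    evalW_wd hD hφ hx, evalW_wd hD hφ hy, evalW_wi hD hφ hx, evalW_wi hD hφ hy,
    ← Subgroup.coe_inv, ← Subgroup.coe_inv, ← U_neg, ← U_neg, coe_U φ hD hx, coe_U φ hD hy,
    coe_U φ hD hx, coe_U φ hD hy]
  simp only [AddSubgroup.coe_neg, mul_assoc]
  rfl

theorem com_of_ok {x y : ℕ} (h : ComOK x y) : Com (U φ hD) x y := by
  obtain ⟨hx, hy, hc⟩ := h
  intro t u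
  refine Subtype.ext ?_
  have e := evalW_cw hD hφ hx hy t u
  rw [hc] at e
  change 1 = _ at e
  rw [← mul_inv_rev] at e
  exact (inv_mul_eq_one.1 e.symm).symm

/-- The commutator moves no vector fixed by the list. -/
theorem supp_fix {V : Type*} [AddCommGroup V] [Module ℂ V] (ρ : Representation ℂ ↥(ctxE6 hD φ).G0 V)
    {x y : ℕ} {L : List ℕ} (h : SuppOK x y L) {v : V} (hv : v ∈ FixL ρ (U φ hD) L) (t : Pr φ x) (u : Pr φ y) :
    ρ (U φ hD x t) (ρ (U φ hD y u) v) = ρ (U φ hD y u) (ρ (U φ hD x t) v) := by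
  obtain ⟨hx, hy, hsupp, hpos, hclosed⟩ := h
  let S : Set ℕ := {q | q < 72 ∧ 0 < e6Twist.ht q}
  let T : Set ℕ := {q | q < 72 ∧ rp q ∈ L}
  obtain ⟨c, hc⟩ : ∃ c : ↥(ctxE6 hD φ).G0, c = (U φ hD x t)⁻¹ * (U φ hD y u)⁻¹ * (U φ hD x t * U φ hD y u) := ⟨_, rfl⟩
  have hcw : (c : GL chevE6.Idx K) ∈ UT hD K T := by
    rw [hc]
    simp only [Subgroup.coe_mul, Subgroup.coe_inv]
    rw [← evalW_cw hD hφ hx hy]
    refine Subgroup.list_prod_mem _ fun z hz => ?_
    obtain ⟨e, he, rfl⟩ := List.mem_map.1 hz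
    exact gx_mem_UT hD (hsupp e he) _
  let P : Subgroup (GL chevE6.Idx K) :=
    { carrier := {g | ∃ hg : g ∈ (ctxE6 hD φ).G0, ρ ⟨g, hg⟩ v = v}
      one_mem' := ⟨one_mem _, by rw [show (⟨1, one_mem _⟩ : ↥(ctxE6 hD φ).G0) = 1 from rfl, map_one]; rfl⟩
      mul_mem' := by
        rintro a b ⟨ha, ha'⟩ ⟨hb, hb'⟩
        exact ⟨mul_mem ha hb, by
          rw [show (⟨a * b, mul_mem ha hb⟩ : ↥(ctxE6 hD φ).G0) = ⟨a, ha⟩ * ⟨b, hb⟩ from rfl, rmul, hb', ha']⟩
      inv_mem' := by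
        rintro a ⟨ha, ha'⟩
        exact ⟨inv_mem ha, by
          conv_lhs => arg 2; rw [← ha']
          rw [show (⟨a⁻¹, inv_mem ha⟩ : ↥(ctxE6 hD φ).G0) = (⟨a, ha⟩)⁻¹ from rfl, rinv]⟩ }
  have hstab : ∀ r ∈ e6Twist.reps, r ∈ L → ∀ s ∈ Pr φ r, orb hD e6Twist φ r s ∈ P := by
    intro r hr hrL s hs
    refine ⟨orb_G0 φ hD hr hs, ?_⟩
    have e : (⟨orb hD e6Twist φ r s, orb_G0 φ hD hr hs⟩ : ↥(ctxE6 hD φ).G0) = U φ hD r ⟨s, hs⟩ :=
      Subtype.ext (coe_U φ hD hr ⟨s, hs⟩).symm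
    rw [e]
    exact (mem_FixL ρ).1 hv r hrL ⟨s, hs⟩
  have hcP : (c : GL chevE6.Idx K) ∈ P := by
    obtain ⟨T', hT', hsub, hTL⟩ : ∃ T' : Set ℕ, Stable e6Twist e6Twist.ht T' ∧ T ⊆ T' ∧
        ∀ r ∈ e6Twist.reps, r ∈ T' → r ∈ L := by
      refine ⟨T, ⟨e6Twist_ok.isLin_ht, ⟨fun q hq => hq.1, fun q hq => ?_, ?_⟩, e6Twist_ok.ht_rho, fun q hq => ?_⟩,
        le_rfl, fun r hr hrT => ?_⟩
      · exact (hpos q (List.mem_filter.2 ⟨List.mem_range.2 hq.1, decide_eq_true hq.2⟩)).1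
      · intro r hr s hs hsr τ hτ
        have hm : ∀ q, q ∈ T → q ∈ roots L := fun q hq =>
          List.mem_filter.2 ⟨List.mem_range.2 hq.1, decide_eq_true hq.2⟩
        obtain ⟨h1, h2⟩ := List.mem_filter.1 (hclosed r (hm r hr) s (hm s hs) hsr τ hτ)
        exact ⟨List.mem_range.1 h1, of_decide_eq_true h2⟩
      · exact ⟨e6Twist_ok.rho_lt q hq.1,
          (hpos q (List.mem_filter.2 ⟨List.mem_range.2 hq.1, decide_eq_true hq.2⟩)).2⟩
      · exact rp_self r hr ▸ hrT.2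
    exact hT'.fix_le e6Twist_ok hD φ (fun r hr hrT s hs => hstab r hr (hTL r hr hrT) s (mem_Pr.2 hs))
      ⟨UT_mono hD hsub hcw, (ctxE6 hD φ).G0_le_Fix c.2⟩
  obtain ⟨hg, hfix⟩ := hcP
  have e : U φ hD x t * U φ hD y u = U φ hD y u * U φ hD x t * c := by rw [hc]; group
  rw [← rmul, e, rmul, rmul, show c = ⟨(c : GL chevE6.Idx K), hg⟩ from rfl, hfix]

end Cfsg.Agent.TwistE6Min
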