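import Cfsg.Agent.Lib.TwistE6MinDegree.Group
import Cfsg.Agent.EqLemmas

/-!
# Derivation of fixed root subgroups of a line vector

* `pair_long`, `pair_short`: the pairs of the Heisenberg group of a long root.
* `Rule`, `derive`: rules giving root subgroups fixing a vector of a one-dimensional line.
-/

set_option autoImplicit false
set_option maxRecDepth 100000
set_option linter.unusedSectionVars false

namespace Cfsg.Agent.TwistE6Min

open Module Cfsg.Lie Cfsg.Lie.ChevalleyDatum Cfsg.Agent.Chev Cfsg.Agent.TwistE6D4 Cfsg.Agent.SUMinDegree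
open CollectInt (Poly evalP)

variable {K : Type*} [Field K] [Fintype K] {φ : K →+* K} {hD : Good chevE6} {q : ℕ}

theorem sq_eq (hq : Hyp (ctxE6 hD φ) q 2) (t : K) : φ (φ t) = t := by
  have e := FiniteField.pow_card t
  rw [hq.card, pow_two, pow_mul] at e
  exact ((hq.pow (φ t)).trans (congrArg (· ^ q) (hq.pow t))).trans e

theorem mem_two (hφ : ∀ t, φ (φ t) = t) {r : ℕ} (h : e6Twist.len r = 2) (t : K) : t ∈ Pr φ r := by
  rw [mem_Pr, h]; exact hφ t

theorem mem_one {r : ℕ} (h : e6Twist.len r = 1) {t : K} : t ∈ Pr φ r ↔ φ t = t := by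
  rw [mem_Pr, h]; rfl

/-- The parameters form a finite group. -/
noncomputable instance (r : ℕ) : Fintype (Pr φ r) := Fintype.ofFinite _

theorem card_one (hq : Hyp (ctxE6 hD φ) q 2) {r : ℕ} (h : e6Twist.len r = 1) : Fintype.card (Pr φ r) = q := by
  rw [← Nat.card_eq_fintype_card, ← card_powFixed K hq.card]
  refine Nat.card_congr (Equiv.subtypeEquivRight fun t => ?_)
  rw [mem_one h, show φ t = t ^ q from hq.pow t]

theorem card_two (hq : Hyp (ctxE6 hD φ) q 2) {r : ℕ} (h : e6Twist.len r = 2) : Fintype.card (Pr φ r) = q ^ 2 := by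
  rw [← hq.card, ← Nat.card_eq_fintype_card, ← Nat.card_eq_fintype_card]
  exact Nat.card_congr (Equiv.subtypeUnivEquiv (mem_two (sq_eq hq) h))

theorem trace_ne (hq : Hyp (ctxE6 hD φ) q 2) : ∃ e : K, e + φ e = 1 := by
  obtain ⟨e₀, he⟩ : ∃ e₀, e₀ + φ e₀ ≠ 0 := by
    by_contra! hc
    have h1 := hc 1
    rw [map_one] at h1
    have hid : ∀ t, φ t = t := fun t => by
      have := hc t
      linear_combination this - t * h1
    have hcard := card_powFixed K hq.card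
    rw [Nat.card_congr (Equiv.subtypeUnivEquiv fun t : K => show t ^ q = t by
      rw [← show φ t = t ^ q from hq.pow t, hid]), Nat.card_eq_fintype_card, hq.card, pow_two] at hcard
    have := hq.one_lt
    nlinarith
  refine ⟨e₀ / (e₀ + φ e₀), ?_⟩
  rw [map_div₀, map_add, sq_eq hq e₀, add_comm (φ e₀) e₀, ← add_div, div_self he]

variable {V : Type*} [AddCommGroup V] [Module ℂ V] (ρ : Representation ℂ ↥(ctxE6 hD φ).G0 V)

theorem pair_of_form {a p z : ℕ} {ks : Poly} (hrel : RelOK a p [(z, ks)]) (haz : ComOK a z) (hpz : ComOK p z)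
    (hφ : ∀ t, φ (φ t) = t) (f : K → K → K)
    (hf : ∀ t u : K, evalP (vars φ t u) ks = f t u)
    (hadd : ∀ t t' u, f (t + t') u = f t u + f t' u) (hadd' : ∀ t u u', f t (u + u') = f t u + f t u')
    (hval : ∀ (t : Pr φ a) (u : Pr φ p), f t u ∈ Pr φ z)
    (hsur : ∀ u : Pr φ p, u ≠ 0 → ∀ w : Pr φ z, ∃ t : Pr φ a, f t u = (w : K))
    (hcard : Fintype.card (Pr φ p) = Fintype.card (Pr φ a))
    {χ : AddChar (Pr φ z) ℂ} (hχ : χ ≠ 1) :
    Pair ρ (eig ρ (U φ hD z) χ) (U φ hD a) (U φ hD p) := by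
  obtain ⟨β, hβ⟩ : ∃ β : Pr φ a → Pr φ p → Pr φ z, ∀ t u, (β t u : K) = f t u :=
    ⟨fun t u => ⟨f t u, hval t u⟩, fun _ _ => rfl⟩
  have hz : z ∈ e6Twist.reps := hrel.2.2.1 _ (List.mem_cons_self ..)
  have hr : ∀ t u, U φ hD a t * U φ hD p u = U φ hD z (β t u) * (U φ hD p u * U φ hD a t) := fun t u => by
    refine Subtype.ext ?_
    simp only [Subgroup.coe_mul]
    rw [rel hD hφ hrel t u, coe_U φ hD hz, hβ, ← hf]
    simp
  have hβ₁ : ∀ t t' u, β (t + t') u = β t u + β t' u := fun t t' u => Subtype.ext (by simp [hβ, hadd])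
  have hβ₂ : ∀ t u u', β t (u + u') = β t u + β t u' := fun t u u' => Subtype.ext (by simp [hβ, hadd'])
  let θ : Pr φ p → AddChar (Pr φ a) ℂ := fun u =>
    χ.compAddMonoidHom (AddMonoidHom.mk' (fun t => β t u) fun t t' => hβ₁ t t' u)
  have hθ : ∀ u t, θ u t = χ (β t u) := fun u t => rfl
  have hinj : Function.Injective θ := by
    intro u u' h
    by_contra hne
    refine hχ (AddChar.ext _ _ fun w => ?_)
    obtain ⟨t, ht⟩ := hsur (u - u') (sub_ne_zero.2 hne) w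
    have hw : β t (u - u') = w := Subtype.ext ((hβ _ _).trans ht)
    have h1 : χ (β t (u - u' + u')) = χ (β t u') := by
      rw [sub_add_cancel, ← hθ, h, hθ]
    rw [hβ₂, AddChar.map_add_eq_mul, hw] at h1
    exact (mul_eq_right₀ (AddChar.val_isUnit χ _).ne_zero).1 h1
  refine ⟨θ, (Fintype.bijective_iff_injective_and_card θ).2 ⟨hinj, ?_⟩, fun u t v hv => ?_⟩
  · rw [hcard]; exact (AddChar.card_eq).symm
  · have hmem : ρ (U φ hD p u) (ρ (U φ hD a t) v) ∈ eig ρ (U φ hD z) χ := (mem_eig ρ _).2 fun w => by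
      rw [← rmul, ← (com_of_ok hD hφ hpz) u w, rmul, ← rmul ρ (U φ hD z w),
        ← (com_of_ok hD hφ haz) t w, rmul, (mem_eig ρ _).1 hv w, map_smul, map_smul]
    rw [← rmul, hr, rmul, rmul, (mem_eig ρ _).1 hmem]
    rfl

/-- The data of a pair: long. -/
abbrev PairL (z a p : ℕ) (c : ℤ) : Prop :=
  RelOK a p [(z, [(c, [0, 2])])] ∧ ComOK a z ∧ ComOK p z ∧ c * c = 1 ∧
    e6Twist.len a = 1 ∧ e6Twist.len p = 1 ∧ e6Twist.len z = 1

/-- The data of a pair: short. -/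
abbrev PairS (z a p : ℕ) (c : ℤ) : Prop :=
  RelOK a p [(z, [(c, [0, 3]), (c, [1, 2])])] ∧ ComOK a z ∧ ComOK p z ∧ c * c = 1 ∧
    e6Twist.len a = 2 ∧ e6Twist.len p = 2 ∧ e6Twist.len z = 1

/-- The data of a pair. -/
abbrev PairOK (z a p : ℕ) (c : ℤ) : Prop := PairL z a p c ∨ PairS z a p c

theorem pair_ok (hq : Hyp (ctxE6 hD φ) q 2) {z a p : ℕ} {c : ℤ} (h : PairOK z a p c)
    {χ : AddChar (Pr φ z) ℂ} (hχ : χ ≠ 1) : Pair ρ (eig ρ (U φ hD z) χ) (U φ hD a) (U φ hD p) := by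
  have hφ := sq_eq hq
  rcases h with ⟨hrel, haz, hpz, hc, la, lp, lz⟩ | ⟨hrel, haz, hpz, hc, la, lp, lz⟩
  all_goals have hc' : (c : K) * c = 1 := by rw [← Int.cast_mul, hc, Int.cast_one]
  · refine pair_of_form ρ hrel haz hpz hφ (fun t u => (c : K) * (t * u)) (fun t u => by simp [evalP, vars])
      (fun t t' u => by ring) (fun t u u' => by ring) (fun t u => ?_) (fun u hu w => ?_)
      (by rw [card_one hq lp, card_one hq la]) hχ
    · rw [mem_one lz, map_mul, map_mul, map_intCast, (mem_one la).1 t.2, (mem_one lp).1 u.2]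
    · have hu' : (u : K) ≠ 0 := fun e => hu (Subtype.ext e)
      refine ⟨⟨(c : K) * (w : K) / u, ?_⟩, ?_⟩
      · rw [mem_one la, map_div₀, map_mul, map_intCast, (mem_one lz).1 w.2, (mem_one lp).1 u.2]
      · change (c : K) * ((c : K) * (w : K) / u * u) = w
        rw [div_mul_cancel₀ _ hu', ← mul_assoc, hc', one_mul]
  · refine pair_of_form ρ hrel haz hpz hφ (fun t u => (c : K) * (t * φ u + φ t * u))
      (fun t u => by simp [evalP, vars]; ring)
      (fun t t' u => by rw [map_add]; ring) (fun t u u' => by rw [map_add]; ring) (fun t u => ?_)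
      (fun u hu w => ?_) (by rw [card_two hq lp, card_two hq la]) hχ
    · rw [mem_one lz, map_mul, map_intCast, map_add, map_mul, map_mul, hφ, hφ, add_comm]
    · have hu' : φ (u : K) ≠ 0 := fun e => hu (Subtype.ext ((map_eq_zero φ).1 e))
      have hu'' : (u : K) ≠ 0 := fun e => hu (Subtype.ext e)
      obtain ⟨e, he⟩ := trace_ne hq
      refine ⟨⟨(c : K) * (w : K) * e / φ u, mem_two hφ la _⟩, ?_⟩
      change (c : K) * ((c : K) * (w : K) * e / φ u * φ u + φ ((c : K) * (w : K) * e / φ u) * u) = w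
      rw [map_div₀, map_mul, map_mul, map_intCast, (mem_one lz).1 w.2, hφ, div_mul_cancel₀ _ hu',
        div_mul_cancel₀ _ hu'', ← mul_add, he, mul_one, ← mul_assoc, hc', one_mul]

/-! ### Scalar action -/

variable {ρ}

/-- Acts as a scalar on `v`. -/
def Sc (ρ : Representation ℂ ↥(ctxE6 hD φ).G0 V) (v : V) (g : ↥(ctxE6 hD φ).G0) : Prop := ∃ a : ℂ, ρ g v = a • v

theorem Sc.mul {v : V} {g h : ↥(ctxE6 hD φ).G0} (hg : Sc ρ v g) (hh : Sc ρ v h) : Sc ρ v (g * h) := by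
  obtain ⟨a, ha⟩ := hg
  obtain ⟨b, hb⟩ := hh
  exact ⟨b * a, by rw [rmul, hb, map_smul, ha, smul_smul]⟩

/-- The root subgroup acts by scalars. -/
def IsH (ρ : Representation ℂ ↥(ctxE6 hD φ).G0 V) (v : V) (x : ℕ) : Prop := ∀ t, Sc ρ v (U φ hD x t)

/-- The root subgroup fixes the vector. -/
def IsF (ρ : Representation ℂ ↥(ctxE6 hD φ).G0 V) (v : V) (x : ℕ) : Prop := ∀ t, ρ (U φ hD x t) v = v

theorem IsF.isH {v : V} {x : ℕ} (h : IsF ρ v x) : IsH ρ v x := fun t => ⟨1, by rw [h t, one_smul]⟩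

theorem conj_isH {v : V} {a : Fin 4} (hn : Sc ρ v (nn φ hD a)) {x : ℕ} (hx : x ∈ e6Twist.reps)
    (h : IsH ρ v x) : IsH ρ v (nx a x) := by
  intro u
  obtain ⟨-, σ, hσ⟩ := exists_conj φ hD a hx rfl
  obtain ⟨t, rfl⟩ := σ.surjective u
  obtain ⟨d, hd⟩ := hn
  obtain ⟨b, hb⟩ := h t
  refine ⟨b, ?_⟩
  rcases eq_or_ne v 0 with rfl | hv
  · simp
  have hd0 : d ≠ 0 := fun e => hv (rep_injective ρ (nn φ hD a) (by rw [hd, e, zero_smul, map_zero]))
  have h1 := congrArg (fun g => ρ g v) (hσ t)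
  simp only [rmul, hb, hd, map_smul] at h1
  rw [smul_comm b d] at h1
  exact (smul_right_injective V hd0 h1).symm

theorem conj_isF {v : V} {a : Fin 4} (hn : Sc ρ v (nn φ hD a)) {x : ℕ} (hx : x ∈ e6Twist.reps)
    (h : IsF ρ v x) : IsF ρ v (nx a x) := by
  intro u
  obtain ⟨-, σ, hσ⟩ := exists_conj φ hD a hx rfl
  obtain ⟨t, rfl⟩ := σ.surjective u
  obtain ⟨d, hd⟩ := hn
  rcases eq_or_ne v 0 with rfl | hv
  · simp
  have hd0 : d ≠ 0 := fun e => hv (rep_injective ρ (nn φ hD a) (by rw [hd, e, zero_smul, map_zero]))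
  have h1 := congrArg (fun g => ρ g v) (hσ t)
  simp only [rmul, h t, hd, map_smul] at h1
  exact (smul_right_injective V hd0 h1).symm

/-- The node of a short simple orbit, checked. -/
abbrev ShortNode (a : Fin 4) : Prop :=
  e6Twist.len (chevE6.simple (e6Node a).val) = 2 ∧
    nx a (chevE6.simple (e6Node a).val) = chevE6.neg (chevE6.simple (e6Node a).val)

theorem sl2_isF (hq : Hyp (ctxE6 hD φ) q 2) {v : V} {a : Fin 4} (ha : ShortNode a) (hn : Sc ρ v (nn φ hD a))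
    (h : IsH ρ v (chevE6.simple (e6Node a).val)) : IsF ρ v (chevE6.simple (e6Node a).val) := by
  obtain ⟨r, hr⟩ : ∃ r, r = chevE6.simple (e6Node a).val := ⟨_, rfl⟩
  obtain ⟨hl, hneg⟩ := ha
  have hφ := sq_eq hq
  have hrep : r ∈ e6Twist.reps := hr ▸ e6Root_ok.rep_simple a
  have hm : IsH ρ v (chevE6.neg r) := by
    rw [hr, ← hneg]; exact conj_isH hn (e6Root_ok.rep_simple a) h
  have hnrep : chevE6.neg r ∈ e6Twist.reps := hr ▸ (e6Root_ok.rep_negSimple a).1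
  have hnl : e6Twist.len (chevE6.neg r) = 2 := hr ▸ (e6Root_ok.rep_negSimple a).2.trans hl
  have hPm : ∀ t : K, (ctxE6 hD φ).Pm a t := fun t => mem_Pr.1 (mem_two hφ hl t)
  rw [← hr] at h hl ⊢
  have hop : ∀ t, Sc ρ v ⟨(ctxE6 hD φ).op a t, (ctxE6 hD φ).op_mem_G0 a (hPm t)⟩ := fun t => by
    have e : U φ hD r ⟨t, mem_two hφ hl t⟩ = ⟨(ctxE6 hD φ).op a t, (ctxE6 hD φ).op_mem_G0 a (hPm t)⟩ :=
      Subtype.ext ((coe_U φ hD hrep _).trans (by subst hr; exact ((ctxE6 hD φ).op_eq a t).symm))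
    exact e ▸ h _
  have hom : ∀ t, Sc ρ v ⟨(ctxE6 hD φ).om a t, (ctxE6 hD φ).om_mem_G0 a (hPm t)⟩ := fun t => by
    have e : U φ hD (chevE6.neg r) ⟨t, mem_two hφ hnl t⟩ =
        ⟨(ctxE6 hD φ).om a t, (ctxE6 hD φ).om_mem_G0 a (hPm t)⟩ :=
      Subtype.ext ((coe_U φ hD hnrep _).trans (by subst hr; exact ((ctxE6 hD φ).om_eq a t).symm))
    exact e ▸ hm _
  have hns : ∀ t, Sc ρ v ⟨(ctxE6 hD φ).ns a t, (ctxE6 hD φ).ns_mem_G0 a (hPm t)⟩ := fun t => by
    have e : (⟨(ctxE6 hD φ).ns a t, (ctxE6 hD φ).ns_mem_G0 a (hPm t)⟩ : ↥(ctxE6 hD φ).G0) =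
        ⟨(ctxE6 hD φ).op a t, (ctxE6 hD φ).op_mem_G0 a (hPm t)⟩ *
          ⟨(ctxE6 hD φ).om a (-t⁻¹), (ctxE6 hD φ).om_mem_G0 a (hPm _)⟩ *
          ⟨(ctxE6 hD φ).op a t, (ctxE6 hD φ).op_mem_G0 a (hPm t)⟩ := Subtype.ext ((ctxE6 hD φ).ns_eq a t)
    exact e ▸ ((hop t).mul (hom _)).mul (hop t)
  obtain ⟨u, hu⟩ := exists_unit_sq_ne_one K (by rw [hq.card]; have := hq.one_lt; nlinarith)
  obtain ⟨g, hg⟩ : ∃ g : ↥(ctxE6 hD φ).G0,
      g = ⟨(ctxE6 hD φ).ns a ((-u : Kˣ) : K), (ctxE6 hD φ).ns_mem_G0 a (hPm _)⟩ *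
        ⟨(ctxE6 hD φ).ns a ((1 : Kˣ) : K), (ctxE6 hD φ).ns_mem_G0 a (hPm _)⟩ := ⟨_, rfl⟩
  obtain ⟨d, hd⟩ : Sc ρ v g := hg ▸ (hns _).mul (hns _)
  have hgv : (g : GL chevE6.Idx K) = theta chevE6 K ((ctxE6 hD φ).torVec a u) := by
    rw [hg, Subgroup.coe_mul]
    refine ((ctxE6 hD φ).ns_mul_ns a (-u) 1).trans ?_
    rw [inv_neg_one, mul_neg_one, neg_neg]
  intro w
  have he : ((u * u : Kˣ) : K) - 1 ≠ 0 := sub_ne_zero.2 fun h' => hu (Units.ext (by simpa using h'))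
  obtain ⟨s, hs⟩ : ∃ s : Pr φ r, (s : K) = (w : K) / (((u * u : Kˣ) : K) - 1) :=
    ⟨⟨_, mem_two hφ hl _⟩, rfl⟩
  obtain ⟨b, hb⟩ := h s
  refine comm_fix ρ (g := g) (h := U φ hD r s) (z := U φ hD r w) (Subtype.ext ?_) hd hb
  have key := (ctxE6 hD φ).theta_conj_op ((ctxE6 hD φ).torVec_mem a (hPm (u : K))) a (s : K)
  rw [(ctxE6 hD φ).chiX_torVec, ← hgv, (ctxE6 hD φ).op_eq, (ctxE6 hD φ).op_eq] at key
  subst hr
  simp only [Subgroup.coe_mul]
  rw [← mul_assoc, coe_U φ hD hrep w, coe_U φ hD hrep s]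
  refine (mul_inv_eq_iff_eq_mul.1 key).trans (congrArg (· * _) ?_)
  refine (Eq.trans ?_ ((ctxE6 hD φ).orb_add (e6Root_ok.rep_simple a) (w : K) (s : K)))
  congr 1
  rw [hs]
  field_simp
  ring

/-- A commutator relation with one term. -/
abbrev CommOK (x y k : ℕ) (c : ℤ) (i j : Bool) : Prop :=
  RelOK x y [(k, [(c, [if i then 1 else 0, if j then 3 else 2])])] ∧ c * c = 1 ∧
    e6Twist.len x = e6Twist.len k

theorem comm_isF (hq : Hyp (ctxE6 hD φ) q 2) {v : V} {x y k : ℕ} {c : ℤ} {i j : Bool} (h : CommOK x y k c i j)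
    (hx : IsH ρ v x) (hy : IsH ρ v y) : IsF ρ v k := by
  obtain ⟨hrel, hc, hl⟩ := h
  intro w
  have hφ := sq_eq hq
  have h1 : (1 : K) ∈ Pr φ y := by simp [mem_Pr, ← RingHom.coe_pow]
  have hw : ∀ t : K, t ∈ Pr φ k → φ t ∈ Pr φ k := fun t ht => by
    rcases len_cases k (hrel.2.2.1 _ (List.mem_cons_self ..)) with e | e
    · rwa [(mem_one e).1 ht]
    · exact mem_two hφ e _
  obtain ⟨t, ht⟩ : ∃ t : Pr φ x, vars φ (t : K) 1 (if i then 1 else 0) = (c : K) * w := by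
    have hcw : (c : K) * w ∈ Pr φ k := by
      rw [mem_Pr, ← RingHom.coe_pow, map_mul, map_intCast, RingHom.coe_pow, mem_Pr.1 w.2]
    have hx' : ∀ z : K, z ∈ Pr φ k → z ∈ Pr φ x := fun z hz => by
      rw [mem_Pr, hl]; exact hz
    cases i
    · exact ⟨⟨_, hx' _ hcw⟩, rfl⟩
    · exact ⟨⟨_, hx' _ (hw _ hcw)⟩, hφ _⟩
  obtain ⟨a, ha⟩ := hx t
  obtain ⟨b, hb⟩ := hy ⟨1, h1⟩
  refine comm_fix ρ (g := U φ hD x t) (h := U φ hD y ⟨1, h1⟩) (Subtype.ext ?_) ha hb
  have e := rel hD hφ hrel t ⟨1, h1⟩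
  simp only [Subgroup.coe_mul]
  rw [e, coe_U φ hD (hrel.2.2.1 _ (List.mem_cons_self ..))]
  simp only [List.map_cons, List.map_nil, List.prod_cons, List.prod_nil, mul_one]
  congr 2
  have hc' : (c : K) * c = 1 := by rw [← Int.cast_mul, hc, Int.cast_one]
  cases j <;> simp [evalP, ht] <;> simp [vars, ← mul_assoc, hc']

/-- The relation of a long and a short root with two terms. -/
abbrev ChainOK (x y k k' : ℕ) (c c' : ℤ) (j : Bool) : Prop :=
  RelOK x y [(k, [(c, [0, if j then 3 else 2])]), (k', [(c', [0, 2, 3])])] ∧ c * c = 1 ∧ c' * c' = 1 ∧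
    e6Twist.len x = 1 ∧ e6Twist.len y = 2 ∧ e6Twist.len k = 2 ∧ e6Twist.len k' = 1

theorem chain_isF (hq : Hyp (ctxE6 hD φ) q 2) {v : V} {x y k k' : ℕ} {c c' : ℤ} {j : Bool}
    (h : ChainOK x y k k' c c' j) (hx : IsH ρ v x) (hy : IsH ρ v y) (hk' : IsH ρ v k') :
    IsF ρ v k ∧ IsF ρ v k' := by
  obtain ⟨hrel, hc, hc', lx, ly, lk, lk'⟩ := h
  have hφ := sq_eq hq
  have hcK : (c : K) * c = 1 := by rw [← Int.cast_mul, hc, Int.cast_one]
  have hcK' : (c' : K) * c' = 1 := by rw [← Int.cast_mul, hc', Int.cast_one]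
  have hk : k ∈ e6Twist.reps := hrel.2.2.1 _ (List.mem_cons_self ..)
  have hk'r : k' ∈ e6Twist.reps := hrel.2.2.1 _ (List.mem_cons_of_mem _ (List.mem_cons_self ..))
  obtain ⟨f, hf⟩ : ∃ f : K →+ Pr φ k, ∀ u, (f u : K) = (c : K) * (if j then φ u else u) :=
    ⟨AddMonoidHom.mk' (fun u => ⟨(c : K) * (if j then φ u else u), mem_two hφ lk _⟩)
      (fun a b => Subtype.ext (by cases j <;> simp [mul_add])), fun _ => rfl⟩
  have hfs : Function.Surjective f := fun w => by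
    refine ⟨if j then φ ((c : K) * w) else (c : K) * w, Subtype.ext ?_⟩
    rw [hf]; cases j <;> simp [hφ, ← mul_assoc, hcK]
  obtain ⟨g, hg⟩ : ∃ g : K → Pr φ k', ∀ u, (g u : K) = (c' : K) * (u * φ u) :=
    ⟨fun u => ⟨(c' : K) * (u * φ u), by rw [mem_one lk', map_mul, map_mul, map_intCast, hφ, mul_comm (φ u)]⟩,
      fun _ => rfl⟩
  have hfix : ∀ u, ρ (U φ hD k (f u)) (ρ (U φ hD k' (g u)) v) = v := by
    intro u
    obtain ⟨a, ha⟩ := hx ⟨1, by rw [mem_one lx, map_one]⟩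
    obtain ⟨b, hb⟩ := hy ⟨u, mem_two hφ ly u⟩
    rw [← rmul]
    refine comm_fix ρ (g := U φ hD x _) (h := U φ hD y _) (Subtype.ext ?_) ha hb
    have e := rel hD hφ hrel ⟨1, by rw [mem_one lx, map_one]⟩ ⟨u, mem_two hφ ly u⟩
    simp only [Subgroup.coe_mul]
    rw [e, coe_U φ hD hk, coe_U φ hD hk'r, hf, hg]
    simp only [List.map_cons, List.map_nil, List.prod_cons, List.prod_nil, mul_one]
    cases j <;> simp [evalP, vars]
  have hsc : ∀ u, ρ (U φ hD k' (g u)) v = ρ (U φ hD k (f (-u))) v := fun u => by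
    conv_rhs => rw [← hfix u, map_neg, U_neg, rinv]
  have hF' : IsF ρ v k' := by
    intro w
    obtain ⟨e, he⟩ := trace_ne hq
    obtain ⟨u, hu⟩ : ∃ u : K, u = (c' : K) * w * e := ⟨_, rfl⟩
    have hgadd : g (u + 1) = g u + g 1 + w := Subtype.ext (by
      have hw := (mem_one lk').1 w.2
      simp only [AddSubgroup.coe_add, hg, map_add, map_one]
      have : φ u = (c' : K) * w * φ e := by rw [hu]; simp [hw]
      rw [this, hu]
      linear_combination ((c' : K) * c' * (w : K)) * he + (w : K) * hcK')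
    obtain ⟨a, ha⟩ := hk' (g u)
    have h3 := hsc (u + 1)
    rw [hgadd, U_add, U_add, rmul, rmul, neg_add, map_add, U_add, rmul, ← hsc 1] at h3
    obtain ⟨b, hb⟩ := hk' (g 1)
    rw [hb, map_smul, ← hsc u, ha] at h3
    obtain ⟨d, hd⟩ := hk' w
    rw [hd, map_smul, map_smul, hb, map_smul, ha, smul_smul, smul_smul, smul_smul] at h3
    rcases eq_or_ne v 0 with rfl | hv
    · exact map_zero _
    have hab : ∀ (z : Pr φ k') (s : ℂ), ρ (U φ hD k' z) v = s • v → s ≠ 0 := fun z s hs h0 =>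
      hv (rep_injective ρ (U φ hD k' z) (by rw [hs, h0, zero_smul, map_zero]))
    have h4 := smul_left_injective ℂ hv h3
    have h5 : d = 1 := mul_right_cancel₀ (mul_ne_zero (hab _ _ hb) (hab _ _ ha))
      (show d * (b * a) = 1 * (b * a) by linear_combination h4)
    rw [hd, h5, one_smul]
  refine ⟨fun w => ?_, hF'⟩
  obtain ⟨u, rfl⟩ := hfs w
  have := hfix u
  rwa [hF'] at this

/-! ### Lines -/

/-- The line of a long root with a half of its Heisenberg roots. -/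
noncomputable def Line (ρ : Representation ℂ ↥(ctxE6 hD φ).G0 V) (al : ℕ) (A : List ℕ)
    (χ : AddChar (Pr φ al) ℂ) : Submodule ℂ V := eig ρ (U φ hD al) χ ⊓ FixL ρ (U φ hD) A

/-- A vector spanning a line. -/
structure Spans (ρ : Representation ℂ ↥(ctxE6 hD φ).G0 V) (al : ℕ) (A : List ℕ)
    (χ : AddChar (Pr φ al) ℂ) (v : V) : Prop where
  mem : v ∈ Line ρ al A χ
  span : ∀ u ∈ Line ρ al A χ, ∃ a : ℂ, u = a • v

/-- The computed support of a commutator. -/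
abbrev suppL (x y : ℕ) : List ℕ := ((cw x y).map fun e => rp e.1).dedup

/-- A root stabilising the line. -/
abbrev StabOK (al : ℕ) (A : List ℕ) (F : List ℕ) (x : ℕ) : Prop :=
  ∀ a ∈ al :: A, SuppOK a x (suppL a x) ∧ ∀ k ∈ suppL a x, k ∈ F

/-- A node whose element stabilises the line. -/
abbrev NodeOK (al : ℕ) (A : List ℕ) (a : Fin 4) : Prop :=
  ShortNode a ∧ (∀ b ∈ A, ∃ x ∈ A, x ∈ e6Twist.reps ∧ nx a x = b) ∧
    ComOK (chevE6.simple (e6Node a).val) al ∧ ComOK (chevE6.neg (chevE6.simple (e6Node a).val)) al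

theorem node_sc (hq : Hyp (ctxE6 hD φ) q 2) {al : ℕ} {A : List ℕ} {χ : AddChar (Pr φ al) ℂ} {v : V}
    (hv : Spans ρ al A χ v) {a : Fin 4} (h : NodeOK al A a) : Sc ρ v (nn φ hD a) := by
  obtain ⟨⟨hl, -⟩, hA, hc1, hc2⟩ := h
  refine hv.span _ ⟨(mem_eig ρ _).2 fun w => ?_, (mem_FixL ρ).2 fun b hb u => ?_⟩
  · have hφ := sq_eq hq
    have hl' : e6Twist.len (chevE6.neg (chevE6.simple (e6Node a).val)) = 2 :=
      (e6Root_ok.rep_negSimple a).2.trans hl
    have e : nn φ hD a = U φ hD _ ⟨1, mem_two hφ hl 1⟩ * U φ hD _ ⟨-1, mem_two hφ hl' (-1)⟩ *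
        U φ hD _ ⟨1, mem_two hφ hl 1⟩ := Subtype.ext (by
      simp only [Subgroup.coe_mul]
      rw [coe_U φ hD hc1.1, coe_U φ hD hc2.1, ← (ctxE6 hD φ).op_eq, ← (ctxE6 hD φ).om_eq]
      show (ctxE6 hD φ).ns a 1 = _
      rw [(ctxE6 hD φ).ns_eq, inv_one])
    have hc : Commute (U φ hD al w) (nn φ hD a) := by
      rw [e]
      have c1 : ∀ s, Commute (U φ hD al w) (U φ hD (chevE6.simple (e6Node a).val) s) :=
        fun s => (com_of_ok hD hφ hc1 s w).symm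
      have c2 : ∀ s, Commute (U φ hD al w) (U φ hD (chevE6.neg (chevE6.simple (e6Node a).val)) s) :=
        fun s => (com_of_ok hD hφ hc2 s w).symm
      exact ((c1 _).mul_right (c2 _)).mul_right (c1 _)
    rw [← rmul, hc.eq, rmul, (mem_eig ρ _).1 hv.mem.1 w, map_smul]
  · obtain ⟨x, hxA, hx, hxb⟩ := hA b hb
    obtain ⟨-, σ, hσ⟩ := exists_conj φ hD a hx hxb
    obtain ⟨t, rfl⟩ := σ.surjective u
    rw [← rmul, ← hσ, rmul, (mem_FixL ρ).1 hv.mem.2 x hxA t]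

theorem stab_isH (hq : Hyp (ctxE6 hD φ) q 2) {al : ℕ} {A F : List ℕ} {χ : AddChar (Pr φ al) ℂ} {v : V}
    (hv : Spans ρ al A χ v) (hF : ∀ k ∈ F, IsF ρ v k) {x : ℕ} (h : StabOK al A F x) : IsH ρ v x := by
  intro t
  have hfix : ∀ a ∈ al :: A, ∀ s, ρ (U φ hD a s) (ρ (U φ hD x t) v) = ρ (U φ hD x t) (ρ (U φ hD a s) v) :=
    fun a ha s => supp_fix hD (sq_eq hq) ρ (h a ha).1 ((mem_FixL ρ).2 fun k hk => hF k ((h a ha).2 k hk)) s t
  refine hv.span _ ⟨(mem_eig ρ _).2 fun w => ?_, (mem_FixL ρ).2 fun b hb u => ?_⟩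
  · rw [hfix al (List.mem_cons_self ..), (mem_eig ρ _).1 hv.mem.1 w, map_smul]
  · rw [hfix b (List.mem_cons_of_mem _ hb), (mem_FixL ρ).1 hv.mem.2 b hb u]

/-- The rules. -/
inductive Rule where
  | stab (x : ℕ)
  | sl2 (a : Fin 4)
  | conjH (a : Fin 4) (x : ℕ)
  | conjF (a : Fin 4) (x : ℕ)
  | comm (x y k : ℕ) (c : ℤ) (i j : Bool)
  | chain (x y k k' : ℕ) (c c' : ℤ) (j : Bool)

/-- The applicability of a rule. -/
def Rule.Ok (al : ℕ) (A N : List ℕ) (F H : List ℕ) : Rule → Prop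
  | .stab x => StabOK al A F x
  | .sl2 a => a.val ∈ N ∧ ShortNode a ∧ chevE6.simple (e6Node a).val ∈ H
  | .conjH a x => a.val ∈ N ∧ x ∈ e6Twist.reps ∧ x ∈ H
  | .conjF a x => a.val ∈ N ∧ x ∈ e6Twist.reps ∧ x ∈ F
  | .comm x y k c i j => x ∈ H ∧ y ∈ H ∧ CommOK x y k c i j
  | .chain x y k k' c c' j => x ∈ H ∧ y ∈ H ∧ k' ∈ H ∧ ChainOK x y k k' c c' j

instance (al : ℕ) (A N F H : List ℕ) : (r : Rule) → Decidable (r.Ok al A N F H)
  | .stab x => inferInstanceAs (Decidable (StabOK al A F x))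
  | .sl2 a => inferInstanceAs (Decidable (_ ∧ _ ∧ _))
  | .conjH a x => inferInstanceAs (Decidable (_ ∧ _ ∧ _))
  | .conjF a x => inferInstanceAs (Decidable (_ ∧ _ ∧ _))
  | .comm x y k c i j => inferInstanceAs (Decidable (_ ∧ _ ∧ _))
  | .chain x y k k' c c' j => inferInstanceAs (Decidable (_ ∧ _ ∧ _ ∧ _))

/-- The new fixing roots of a rule. -/
def Rule.newF : Rule → List ℕ
  | .stab _ => []
  | .sl2 a => [chevE6.simple (e6Node a).val]
  | .conjH _ _ => []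
  | .conjF a x => [nx a x]
  | .comm _ _ k _ _ _ => [k]
  | .chain _ _ k k' _ _ _ => [k, k']

/-- The new stabilising roots of a rule. -/
def Rule.newH : Rule → List ℕ
  | .stab x => [x]
  | .conjH a x => [nx a x]
  | r => r.newF

/-- The validity of a derivation with result. -/
def Run (al : ℕ) (A N : List ℕ) (E E' : List ℕ) : List Rule → List ℕ → List ℕ → Prop
  | [], F, H => (∀ e ∈ E, e ∈ F) ∧ ∀ e ∈ E', e ∈ H
  | r :: L, F, H => r.Ok al A N F H ∧ Run al A N E E' L (r.newF ++ F) (r.newH ++ H)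

instance instDecidableRun (al : ℕ) (A N E E' : List ℕ) :
    (L : List Rule) → (F H : List ℕ) → Decidable (Run al A N E E' L F H)
  | [], _, _ => inferInstanceAs (Decidable (_ ∧ _))
  | r :: L, F, H =>
    have := instDecidableRun al A N E E' L (r.newF ++ F) (r.newH ++ H)
    inferInstanceAs (Decidable (_ ∧ _))

theorem derive (hq : Hyp (ctxE6 hD φ) q 2) {al : ℕ} {A N E E' : List ℕ} {χ : AddChar (Pr φ al) ℂ} {v : V}
    (hv : Spans ρ al A χ v) (hN : ∀ a : Fin 4, a.val ∈ N → NodeOK al A a) :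
    ∀ (L : List Rule) (F H : List ℕ), Run al A N E E' L F H → (∀ k ∈ F, IsF ρ v k) → (∀ k ∈ H, IsH ρ v k) →
      (∀ e ∈ E, IsF ρ v e) ∧ ∀ e ∈ E', IsH ρ v e
  | [], F, H, hr, hF, hH => ⟨fun e he => hF e (hr.1 e he), fun e he => hH e (hr.2 e he)⟩
  | r :: L, F, H, hr, hF, hH => by
    obtain ⟨hok, hrest⟩ := hr
    have hnew : (∀ k ∈ r.newF, IsF ρ v k) ∧ ∀ k ∈ r.newH, IsH ρ v k := by
      cases r with
      | stab x =>
        refine ⟨by simp [Rule.newF], fun k hk => ?_⟩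
        obtain rfl : k = x := List.mem_singleton.1 hk
        exact stab_isH hq hv hF hok
      | sl2 a =>
        obtain ⟨h1, h2, h3⟩ := hok
        have := sl2_isF hq h2 (node_sc hq hv (hN a h1)) (hH _ h3)
        exact ⟨fun k hk => List.mem_singleton.1 hk ▸ this, fun k hk => List.mem_singleton.1 hk ▸ this.isH⟩
      | conjH a x =>
        obtain ⟨h1, h2, h3⟩ := hok
        refine ⟨by simp [Rule.newF], fun k hk => ?_⟩
        exact List.mem_singleton.1 hk ▸ conj_isH (node_sc hq hv (hN a h1)) h2 (hH _ h3)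
      | conjF a x =>
        obtain ⟨h1, h2, h3⟩ := hok
        have := conj_isF (node_sc hq hv (hN a h1)) h2 (hF _ h3)
        exact ⟨fun k hk => List.mem_singleton.1 hk ▸ this, fun k hk => List.mem_singleton.1 hk ▸ this.isH⟩
      | comm x y k c i j =>
        obtain ⟨h1, h2, h3⟩ := hok
        have := comm_isF hq h3 (hH _ h1) (hH _ h2)
        exact ⟨fun m hm => List.mem_singleton.1 hm ▸ this, fun m hm => List.mem_singleton.1 hm ▸ this.isH⟩
      | chain x y k k' c c' j =>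
        obtain ⟨h1, h2, h3, h4⟩ := hok
        obtain ⟨a, b⟩ := chain_isF hq h4 (hH _ h1) (hH _ h2) (hH _ h3)
        refine ⟨fun m hm => ?_, fun m hm => ?_⟩ <;>
          rcases List.mem_cons.1 hm with rfl | hm
        · exact a
        · exact List.mem_singleton.1 hm ▸ b
        · exact a.isH
        · exact List.mem_singleton.1 hm ▸ b.isH
    exact derive hq hv hN L _ _ hrest (fun k hk => (List.mem_append.1 hk).elim (hnew.1 k) (hF k))
      (fun k hk => (List.mem_append.1 hk).elim (hnew.2 k) (hH k))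

end Cfsg.Agent.TwistE6Min
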